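import Groth.Agent.AlgSp.K639.Diag2
import Groth.Agent.FlatB.GeomRed
import Groth.Agent.Etcore.SmoothRed

/-!
# Reduced algebraic spaces and geometrically reduced fibres
-/

set_option autoImplicit false

universe u

open CategoryTheory CategoryTheory.Limits AlgebraicGeometry Opposite AlgSp
open K639.Diag K639.Fib K639.Diag2 Groth.Agent

namespace K639.Red

variable {S : Scheme.{u}} {F X Y XV XT : Sp S}

/-- Every étale chart of a reduced sheaf is reduced. -/
theorem isReduced_chart (h : EtaleLocally (fun U => IsReduced U) F) {U : Over S} {a : (yon S).obj U ⟶ F}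
    (ha : RepWith @Etale a) : IsReduced U.left := by
  obtain ⟨U₀, p₀, h₁, h₂, h₃⟩ := h
  obtain ⟨R, p, q, sq, hq⟩ := exists_pullback h₁ a
  have hq' : Surjective q.left := h₂.2 _ _ _ sq
  have hp : Etale p.left := ha.2 p₀ _ _ sq.flip
  have h₄ : IsReduced U₀.left := h₃
  have : IsReduced R.left := Etcore.SmoothRed.isReduced_of_smooth p.left
  exact FlatB.GeomRed.isReduced_of_flat_of_surjective q.left

/-- With a chart `h_U ⟶ X ×_Y V`, the base change `X ×_Y T` along `T ⟶ V` is reduced iff `U ×_V T` is. -/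
theorem red_iff {f : X ⟶ Y} {V U T : Over S} {g : (yon S).obj V ⟶ Y} {α : XV ⟶ X} {β : XV ⟶ (yon S).obj V}
    (sq : IsPullback α β f g) {c : (yon S).obj U ⟶ XV} (hc : RepWith @Etale c) (hcs : RepWith @Surjective c)
    {h : U ⟶ V} (hch : c ≫ β = (yon S).map h) (t : T ⟶ V) {α' : XT ⟶ X} {β' : XT ⟶ (yon S).obj T}
    (sq' : IsPullback α' β' f ((yon S).map t ≫ g)) :
    EtaleLocally (fun U => IsReduced U) XT ↔ IsReduced (pullback h.left t.left) := by
  have sqU : IsPullback (Over.homMk (U := Over.mk (pullback.fst h.left t.left ≫ U.hom)) (pullback.fst h.left t.left) rfl)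
      (Over.homMk (pullback.snd h.left t.left) (by
        change pullback.snd h.left t.left ≫ T.hom = pullback.fst h.left t.left ≫ U.hom
        rw [← Over.w t, ← Over.w h, ← Category.assoc, ← Category.assoc, pullback.condition]) :
        Over.mk (pullback.fst h.left t.left ≫ U.hom) ⟶ T) h t := by
    refine IsPullback.of_map (Over.forget S) ?_ ?_
    · exact Over.OverMorphism.ext pullback.condition
    · exact IsPullback.of_hasPullback h.left t.left
  obtain ⟨cT, m, -, -, sqc, -, -, -⟩ := exists_chart_baseChange sq hch t sq' sqU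
  constructor
  · intro H
    exact isReduced_chart H (repWith_of_isPullback sqc hc)
  · intro H
    exact ⟨_, cT, repWith_of_isPullback sqc hc, repWith_of_isPullback sqc hcs, H⟩

/-- The fibre of `f` over the field point `k` is geometrically reduced. -/
def GeomRedAt (f : X ⟶ Y) (k : FieldPt Y) : Prop :=
  ∀ (k' : Type u) [Field k'] (φ : k.K →+* k') (Xk' : Sp S) (a : Xk' ⟶ X)
    (b : Xk' ⟶ (yon S).obj (Over.mk (Spec.map (CommRingCat.ofHom φ) ≫ k.str))),
    IsPullback a b f ((yon S).map (Over.homMk (Spec.map (CommRingCat.ofHom φ)) rfl :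
      Over.mk (Spec.map (CommRingCat.ofHom φ) ≫ k.str) ⟶ k.pt) ≫ k.toHom) →
      EtaleLocally (fun U => IsReduced U) Xk'

/-- Descent of reducedness along extensions of fields. -/
theorem red_of_field_ext {f : X ⟶ Y} (hX : IsAlgSpace X) (hY : IsAlgSpace Y) {k K : Type u} [Field k] [Field K]
    {s : Spec (CommRingCat.of k) ⟶ S} {s' : Spec (CommRingCat.of K) ⟶ S} (t : Over.mk s' ⟶ Over.mk s)
    (g : (yon S).obj (Over.mk s) ⟶ Y) {α : XV ⟶ X} {β : XV ⟶ (yon S).obj (Over.mk s)}
    (sq : IsPullback α β f g) {α' : XT ⟶ X} {β' : XT ⟶ (yon S).obj (Over.mk s')}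
    (sq' : IsPullback α' β' f ((yon S).map t ≫ g)) (H : EtaleLocally (fun U => IsReduced U) XT) :
    EtaleLocally (fun U => IsReduced U) XV := by
  obtain ⟨U, c, h, hc, hcs, hch⟩ := exists_chart_pullback hX (hY.representable_from_yon g) sq
  have h1 := (red_iff sq hc hcs hch t sq').1 H
  have h4 : Flat t.left := by
    obtain ⟨φ, hφ⟩ := Spec.map_surjective t.left
    rw [← hφ, HasRingHomProperty.Spec_iff (P := @Flat)]
    algebraize [φ.hom]
    exact RingHom.flat_algebraMap_iff.mpr inferInstance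
  have h5 : Surjective t.left := ⟨fun x => ⟨IsLocalRing.closedPoint _, Subsingleton.elim (α := PrimeSpectrum k) _ _⟩⟩
  have h2 : IsReduced U.left := FlatB.GeomRed.isReduced_of_flat_of_surjective (pullback.fst h.left t.left)
  exact ⟨U, c, hc, hcs, h2⟩

/-- A morphism of spectra of fields over `S` is induced by a ring map. -/
theorem exists_ringHom {k K : Type u} [Field k] [Field K]
    {s : Spec (CommRingCat.of k) ⟶ S} {s' : Spec (CommRingCat.of K) ⟶ S} (t : Over.mk s' ⟶ Over.mk s) :
    ∃ (φ : k →+* K) (e : Spec.map (CommRingCat.ofHom φ) ≫ s = s'),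
      t = Over.homMk (Spec.map (CommRingCat.ofHom φ)) e := by
  obtain ⟨φ, hφ⟩ := Spec.map_surjective t.left
  have e : Spec.map (CommRingCat.ofHom φ.hom) ≫ s = s' := by
    have := Over.w t
    dsimp at this
    rw [← this, ← hφ]
    rfl
  exact ⟨φ.hom, e, Over.OverMorphism.ext hφ.symm⟩

/-- The field point `k` restricted to an extension field. -/
noncomputable abbrev extPt (k : FieldPt F) {k' : Type u} [Field k'] (φ : k.K →+* k') : FieldPt F :=
  ⟨k', Spec.map (CommRingCat.ofHom φ) ≫ k.str,
    F.obj.map (Over.homMk (Spec.map (CommRingCat.ofHom φ)) rfl :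
      Over.mk (Spec.map (CommRingCat.ofHom φ) ≫ k.str) ⟶ k.pt).op k.val⟩

theorem extPt_toHom (k : FieldPt F) {k' : Type u} [Field k'] (φ : k.K →+* k') :
    (extPt k φ).toHom = (yon S).map (Over.homMk (Spec.map (CommRingCat.ofHom φ)) rfl :
      Over.mk (Spec.map (CommRingCat.ofHom φ) ≫ k.str) ⟶ k.pt) ≫ k.toHom := by
  apply (J S).uliftYonedaEquiv.injective
  rw [FieldPt.uliftYonedaEquiv_toHom, ← GrothendieckTopology.uliftYonedaEquiv_naturality,
    FieldPt.uliftYonedaEquiv_toHom]

theorem mk_extPt (k : FieldPt F) {k' : Type u} [Field k'] (φ : k.K →+* k') :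
    Points.mk (extPt k φ) = Points.mk k :=
  Points.sound ⟨k', inferInstance, _, 𝟙 _, Over.homMk (Spec.map (CommRingCat.ofHom φ)) rfl, by
    rw [op_id, Functor.map_id_apply]⟩

/-- Two field points in the same class agree over a common extension, in terms of morphisms of sheaves. -/
theorem exists_common_ext {k₀ k : FieldPt F} (e : Points.mk k₀ = Points.mk k) :
    ∃ (Ω : Type u) (_ : Field Ω) (w : Spec (CommRingCat.of Ω) ⟶ S) (i : Over.mk w ⟶ k₀.pt) (j : Over.mk w ⟶ k.pt),
      (yon S).map i ≫ k₀.toHom = (yon S).map j ≫ k.toHom := by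
  obtain ⟨Ω, hΩ, w, i, j, hij⟩ := Points.mk_eq_mk_iff.1 e
  refine ⟨Ω, hΩ, w, i, j, ?_⟩
  apply (J S).uliftYonedaEquiv.injective
  rw [← GrothendieckTopology.uliftYonedaEquiv_naturality, ← GrothendieckTopology.uliftYonedaEquiv_naturality,
    FieldPt.uliftYonedaEquiv_toHom, FieldPt.uliftYonedaEquiv_toHom]
  exact hij

/-- Geometric reducedness of the fibre only depends on the point. -/
theorem geomRedAt_of_mk_eq {f : X ⟶ Y} (hX : IsAlgSpace X) (hY : IsAlgSpace Y) {k₀ k : FieldPt Y}
    (e : Points.mk k₀ = Points.mk k) (H : GeomRedAt f k₀) : GeomRedAt f k := by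
  intro k' _ φ Xk' a b sq
  obtain ⟨Ω, hΩ, w, i, j, hij⟩ := exists_common_ext (k := extPt k φ) (e.trans (mk_extPt k φ).symm)
  obtain ⟨ψ, rfl, hψ⟩ := exists_ringHom (k := k₀.K) (K := Ω) i
  rw [hψ] at hij
  obtain ⟨P, α, β, sq₁⟩ : ∃ (P : Sp S) (α : P ⟶ X) (β : P ⟶ _), IsPullback α β f
      ((yon S).map (Over.homMk (Spec.map (CommRingCat.ofHom ψ)) rfl :
      Over.mk (Spec.map (CommRingCat.ofHom ψ) ≫ k₀.str) ⟶ k₀.pt) ≫ k₀.toHom) :=
    ⟨_, _, _, IsPullback.of_hasPullback _ _⟩
  have h1 := H Ω ψ _ _ _ sq₁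
  rw [hij, extPt_toHom] at sq₁
  exact red_of_field_ext hX hY (k := k') (K := Ω) j _ sq sq₁ h1

/-- The fibre over a field point is reduced when it is geometrically reduced. -/
theorem GeomRedAt.reduced {f : X ⟶ Y} (hX : IsAlgSpace X) (hY : IsAlgSpace Y) {k : FieldPt Y}
    (H : GeomRedAt f k) {Xk : Sp S} {a : Xk ⟶ X} {b : Xk ⟶ (yon S).obj k.pt} (sq : IsPullback a b f k.toHom) :
    EtaleLocally (fun U => IsReduced U) Xk := by
  have h1 := H k.K (RingHom.id _) _ _ _ (IsPullback.of_hasPullback f _)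
  exact red_of_field_ext hX hY (k := k.K) (K := k.K) _ k.toHom sq (IsPullback.of_hasPullback f _) h1

theorem exists_factor_residueField {V : Scheme.{u}} {K : Type u} [Field K] (t : Spec (CommRingCat.of K) ⟶ V) :
    ∃ i : Spec (CommRingCat.of K) ⟶ Spec (V.residueField (t (IsLocalRing.closedPoint K))),
      i ≫ V.fromSpecResidueField _ = t :=
  ⟨_, Scheme.descResidueField_stalkClosedPointTo_fromSpecResidueField K V t⟩

theorem geometricallyReduced_pullback_iff {U V : Scheme.{u}} (h : U ⟶ V) {K : Type u} [Field K]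
    (t : Spec (CommRingCat.of K) ⟶ V) :
    GeometricallyReduced (pullback.snd h t) ↔
      GeometricallyReduced (h.fiberToSpecResidueField (t (IsLocalRing.closedPoint K))) := by
  have hri : MorphismProperty.RespectsIso @GeometricallyReduced.{u} :=
    MorphismProperty.IsStableUnderBaseChange.respectsIso
  obtain ⟨i, hi⟩ := exists_factor_residueField t
  let v := t (IsLocalRing.closedPoint K)
  have sq1 : IsPullback (h.fiberι v) (h.fiberToSpecResidueField v) h (V.fromSpecResidueField v) :=
    IsPullback.of_hasPullback _ _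
  have sq2 : IsPullback (pullback.fst h t) (pullback.snd h t) h (i ≫ V.fromSpecResidueField v) := by
    rw [hi]
    exact IsPullback.of_hasPullback _ _
  let m : pullback h t ⟶ h.fiber v := sq1.lift (pullback.fst _ _) (pullback.snd _ _ ≫ i) (by
    rw [sq2.w, Category.assoc])
  have sq3 : IsPullback m (pullback.snd h t) (h.fiberToSpecResidueField v) i := by
    refine IsPullback.of_right (h₁₂ := h.fiberι v) (v₁₃ := h) (h₂₂ := V.fromSpecResidueField v) ?_
      (sq1.lift_snd _ _ _) sq1
    rw [sq1.lift_fst]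
    exact sq2
  constructor
  · intro H
    refine FlatB.GeomRed.geometricallyReduced_of_pullback (k := V.residueField v) (k' := K) _ i ?_
    have h3 : GeometricallyReduced (sq3.isoPullback.inv ≫ pullback.snd h t) :=
      (MorphismProperty.cancel_left_of_respectsIso @GeometricallyReduced _ _).mpr H
    rw [sq3.isoPullback_inv_snd] at h3
    exact h3
  · intro H
    exact MorphismProperty.of_isPullback sq3 H

/-- With a chart `h_U ⟶ X ×_Y V` and a lift of the field point `k` to `V`: the fibre over `k` is geometrically reduced iff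
the fibre of `U ⟶ V` over the image of the lift is. -/
theorem geomRedAt_iff {f : X ⟶ Y} {V U : Over S} {g : (yon S).obj V ⟶ Y} {α : XV ⟶ X} {β : XV ⟶ (yon S).obj V}
    (sq : IsPullback α β f g) {c : (yon S).obj U ⟶ XV} (hc : RepWith @Etale c) (hcs : RepWith @Surjective c)
    {h : U ⟶ V} (hch : c ≫ β = (yon S).map h) (k : FieldPt Y) (t : k.pt ⟶ V) (ht : (yon S).map t ≫ g = k.toHom) :
    GeomRedAt f k ↔ GeometricallyReduced (h.left.fiberToSpecResidueField (t.left (IsLocalRing.closedPoint k.K))) := by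
  -- the fibre over `k`
  have h1 : GeomRedAt f k ↔ GeometricallyReduced (pullback.snd h.left t.left) := by
    rw [geometricallyReduced_iff, geometrically_iff_of_isClosedUnderIsomorphisms]
    constructor
    · intro H K _ y
      obtain ⟨φ, rfl⟩ := Spec.map_surjective y
      have h2 := H K φ.hom _ _ _ (IsPullback.of_hasPullback f _)
      have h3 : IsPullback (pullback.fst f ((yon S).map (Over.homMk (Spec.map (CommRingCat.ofHom φ.hom)) rfl :
          Over.mk (Spec.map (CommRingCat.ofHom φ.hom) ≫ k.str) ⟶ k.pt) ≫ k.toHom)) (pullback.snd f _) f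
          ((yon S).map ((Over.homMk (Spec.map (CommRingCat.ofHom φ.hom)) rfl :
          Over.mk (Spec.map (CommRingCat.ofHom φ.hom) ≫ k.str) ⟶ k.pt) ≫ t) ≫ g) := by
        rw [Functor.map_comp, Category.assoc, ht]
        exact IsPullback.of_hasPullback f _
      have h4 := (red_iff sq hc hcs hch _ h3).1 h2
      exact FlatB.GeomRed.isReduced_of_iso (pullbackLeftPullbackSndIso h.left t.left (Spec.map φ)) h4
    · intro H k' _ φ Xk' a b sq'
      have h2 := H k' (Spec.map (CommRingCat.ofHom φ))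
      have h4 : IsReduced (pullback h.left (Spec.map (CommRingCat.ofHom φ) ≫ t.left)) :=
        FlatB.GeomRed.isReduced_of_iso (pullbackLeftPullbackSndIso h.left t.left (Spec.map (CommRingCat.ofHom φ))).symm h2
      refine (red_iff sq hc hcs hch ((Over.homMk (Spec.map (CommRingCat.ofHom φ)) rfl :
          Over.mk (Spec.map (CommRingCat.ofHom φ) ≫ k.str) ⟶ k.pt) ≫ t) (α' := a) (β' := b) ?_).2 h4
      rw [Functor.map_comp, Category.assoc, ht]
      exact sq'
  rw [h1]
  exact geometricallyReduced_pullback_iff h.left t.left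

theorem geomRedAt_iff' {f : X ⟶ Y} {V U : Over S} {g : (yon S).obj V ⟶ Y} {α : XV ⟶ X} {β : XV ⟶ (yon S).obj V}
    (sq : IsPullback α β f g) {c : (yon S).obj U ⟶ XV} (hc : RepWith @Etale c) (hcs : RepWith @Surjective c)
    {h : U ⟶ V} (hch : c ≫ β = (yon S).map h) (k : FieldPt Y) (t : k.pt ⟶ V) (ht : (yon S).map t ≫ g = k.toHom)
    (v : V.left) (hv : t.left (IsLocalRing.closedPoint k.K) = v) :
    GeomRedAt f k ↔ GeometricallyReduced (h.left.fiberToSpecResidueField v) := by
  subst hv
  exact geomRedAt_iff sq hc hcs hch k t ht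

/-- The fibre at a point of a chart. -/
theorem geomRedAt_ofPt_iff {f : X ⟶ Y} {V U : Over S} {g : (yon S).obj V ⟶ Y} {α : XV ⟶ X} {β : XV ⟶ (yon S).obj V}
    (sq : IsPullback α β f g) {c : (yon S).obj U ⟶ XV} (hc : RepWith @Etale c) (hcs : RepWith @Surjective c)
    {h : U ⟶ V} (hch : c ≫ β = (yon S).map h) (v : V.left) :
    GeomRedAt f (FieldPt.ofPt g v) ↔ GeometricallyReduced (h.left.fiberToSpecResidueField v) :=
  geomRedAt_iff' sq hc hcs hch (FieldPt.ofPt g v) (K639.Fib.resMap V v) (FieldPt.toHom_ofPt g v).symm v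
    (Scheme.fromSpecResidueField_apply _ _)

end K639.Red
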