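import Groth.Agent.AlgSp.K616.DimInv
import Groth.Agent.AlgSp.K597.LocP
import Groth.Agent.AlgSp.K597.EtLoc
import Groth.Agent.AlgSp.K639.Red
import Groth.Agent.VarietyB.DimTop
import Groth.Prelude.Def_AlgSpDec

/-!
# The dimension of the fibres of a morphism of algebraic spaces
-/

set_option autoImplicit false

universe u

open CategoryTheory CategoryTheory.Limits AlgebraicGeometry Opposite AlgSp
open K639.Diag K639.Fib K639.Diag2 K639.Red Groth.Agent

namespace K639.Dim

section scheme

theorem isIso_fromSpecResidueField {k : Type u} [Field k] (s : Spec (CommRingCat.of k)) :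
    IsIso ((Spec (CommRingCat.of k)).fromSpecResidueField s) := by
  have hsub : Subsingleton (Spec (CommRingCat.of k)) :=
    inferInstanceAs (Subsingleton (PrimeSpectrum k))
  have hr : Set.range ((Spec (CommRingCat.of k)).fromSpecResidueField s) = Set.univ := by
    rw [Scheme.range_fromSpecResidueField]
    ext x
    simp only [Set.mem_singleton_iff, Set.mem_univ, iff_true]
    exact Subsingleton.elim _ _
  have h1 : IsClosedImmersion ((Spec (CommRingCat.of k)).fromSpecResidueField s) :=
    IsClosedImmersion.of_isPreimmersion _ (by rw [hr]; exact isClosed_univ)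
  have h2 : Surjective ((Spec (CommRingCat.of k)).fromSpecResidueField s) :=
    ⟨Set.range_eq_univ.1 hr⟩
  exact isIso_of_isClosedImmersion_of_surjective _

/-- Over a field, the local dimension is the local fibre dimension. -/
theorem localDim_eq_fibreDimAt {X : Scheme.{u}} {k : Type u} [Field k] (f : X ⟶ Spec (CommRingCat.of k)) (x : X) :
    FlatMor.localDim X x = FlatMor.fibreDimAt f x := by
  have h1 : IsIso ((Spec (CommRingCat.of k)).fromSpecResidueField (f x)) := isIso_fromSpecResidueField (f x)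
  have h2 : IsIso (f.fiberι (f x)) := inferInstanceAs (IsIso (pullback.fst f _))
  have h3 := Groth.Agent.S1146.result (f.fiberι (f x)) (f.asFiber x)
  rw [FlatMor.fibreDimAt, h3]
  congr 1
  exact (f.fiberι_asFiber x).symm

/-- The dimension of a base change to a field, through the local fibre dimensions. -/
theorem dim_eq_iSup_of_isPullback {P U V : Scheme.{u}} {K : Type u} [Field K] {p : P ⟶ U}
    {q : P ⟶ Spec (CommRingCat.of K)} {h : U ⟶ V} {t : Spec (CommRingCat.of K) ⟶ V} (sq : IsPullback p q h t)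
    [LocallyOfFiniteType h] :
    topologicalKrullDim P = ⨆ (u : U) (_ : h u = t (IsLocalRing.closedPoint K)), FlatMor.fibreDimAt h u := by
  have h0 : ∀ z : P, FlatMor.localDim P z = FlatMor.fibreDimAt h (p z) := fun z => by
    rw [localDim_eq_fibreDimAt q z]
    exact Ega4fib.H172.FibDimBC.fibreDimAt_of_isPullback sq z
  rw [VarietyB.DimTop.topologicalKrullDim_eq_iSup_localDim]
  apply le_antisymm
  · refine iSup_le fun z => ?_
    rw [h0 z]
    refine le_iSup₂_of_le (p z) ?_ le_rfl
    rw [← Scheme.Hom.comp_apply, sq.w, Scheme.Hom.comp_apply]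
    congr 1
    exact Subsingleton.elim (α := PrimeSpectrum K) _ _
  · refine iSup₂_le fun u hu => ?_
    obtain ⟨z, hz, -⟩ := Scheme.exists_preimage_of_isPullback sq u (IsLocalRing.closedPoint K) hu
    refine le_iSup_of_le z ?_
    rw [h0 z, hz]

theorem dim_fiber_eq_iSup {U V : Scheme.{u}} (h : U ⟶ V) [LocallyOfFiniteType h] (v : V) :
    topologicalKrullDim (h.fiber v) = ⨆ (u : U) (_ : h u = v), FlatMor.fibreDimAt h u := by
  have h1 := dim_eq_iSup_of_isPullback (K := V.residueField v)
    (IsPullback.of_hasPullback h (V.fromSpecResidueField v))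
  have h2 : V.fromSpecResidueField v (IsLocalRing.closedPoint (V.residueField v)) = v :=
    Scheme.fromSpecResidueField_apply _ _
  rw [h2] at h1
  exact h1

/-- The dimension of a base change to a field is the dimension of the fibre. -/
theorem dim_pullback_field {U V : Scheme.{u}} (h : U ⟶ V) [LocallyOfFiniteType h] {K : Type u} [Field K]
    (t : Spec (CommRingCat.of K) ⟶ V) :
    topologicalKrullDim ↥(pullback h t) = topologicalKrullDim (h.fiber (t (IsLocalRing.closedPoint K))) := by
  rw [dim_fiber_eq_iSup, dim_eq_iSup_of_isPullback (IsPullback.of_hasPullback h t)]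

theorem lt_dim_fiber_iff {U V : Scheme.{u}} (h : U ⟶ V) [LocallyOfFiniteType h] (v : V) (d : WithBot ℕ∞) :
    d < topologicalKrullDim (h.fiber v) ↔ ∃ u : U, h u = v ∧ d < FlatMor.fibreDimAt h u := by
  rw [dim_fiber_eq_iSup]
  simp only [lt_iSup_iff, exists_prop]

theorem dim_fiber_le_iff {U V : Scheme.{u}} (h : U ⟶ V) [LocallyOfFiniteType h] (v : V) (d : WithBot ℕ∞) :
    topologicalKrullDim (h.fiber v) ≤ d ↔ ∀ u : U, h u = v → FlatMor.fibreDimAt h u ≤ d := by
  rw [dim_fiber_eq_iSup]
  simp only [iSup_le_iff]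

end scheme

variable {S : Scheme.{u}} {F X Y XV XT : Sp S}

/-- The dimension of a sheaf is the dimension of any étale surjective chart. -/
theorem dim_eq_of_chart {U₀ : Over S} {a₀ : (yon S).obj U₀ ⟶ F} (ha : RepWith @Etale a₀)
    (hs : RepWith @Surjective a₀) : AlgSp.dim F = topologicalKrullDim ↥U₀.left := by
  apply le_antisymm
  · refine iSup_le fun U => iSup_le fun a => iSup_le fun haU => ?_
    obtain ⟨R, p, q, sq, hq⟩ := exists_pullback ha a
    have hp : Etale p.left := haU.2 _ _ _ sq.flip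
    have hq' : Etale q.left := hq
    have hqs : Surjective q.left := hs.2 _ _ _ sq
    rw [VarietyB.DimTop.topologicalKrullDim_eq_iSup_localDim]
    refine iSup_le fun u => ?_
    obtain ⟨r, rfl⟩ := hqs.surj u
    have h1 := Groth.Agent.S1146.result q.left r
    have h2 := Groth.Agent.S1146.result p.left r
    rw [← h1, h2]
    exact VarietyB.DimTop.localDim_le_dim _
  · exact le_iSup_of_le U₀ (le_iSup_of_le a₀ (le_iSup_of_le ha le_rfl))

/-- The dimension of the base change to a field, seen on a chart. -/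
theorem dim_eq_dim_fiber {f : X ⟶ Y} {V U : Over S} {K : Type u} [Field K] {s : Spec (CommRingCat.of K) ⟶ S}
    {g : (yon S).obj V ⟶ Y} {α : XV ⟶ X} {β : XV ⟶ (yon S).obj V}
    (sq : IsPullback α β f g) {c : (yon S).obj U ⟶ XV} (hc : RepWith @Etale c) (hcs : RepWith @Surjective c)
    {h : U ⟶ V} [LocallyOfFiniteType h.left] (hch : c ≫ β = (yon S).map h) (t : Over.mk s ⟶ V)
    {α' : XT ⟶ X} {β' : XT ⟶ (yon S).obj (Over.mk s)} (sq' : IsPullback α' β' f ((yon S).map t ≫ g)) :
    AlgSp.dim XT = topologicalKrullDim (h.left.fiber (t.left (IsLocalRing.closedPoint K))) := by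
  have sqU : IsPullback (Over.homMk (U := Over.mk (pullback.fst h.left t.left ≫ U.hom)) (pullback.fst h.left t.left) rfl)
      (Over.homMk (pullback.snd h.left t.left) (by
        change pullback.snd h.left t.left ≫ (Over.mk s).hom = pullback.fst h.left t.left ≫ U.hom
        rw [← Over.w t, ← Over.w h, ← Category.assoc, ← Category.assoc, pullback.condition]) :
        Over.mk (pullback.fst h.left t.left ≫ U.hom) ⟶ Over.mk s) h t := by
    refine IsPullback.of_map (Over.forget S) ?_ ?_
    · exact Over.OverMorphism.ext pullback.condition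
    · exact IsPullback.of_hasPullback h.left t.left
  obtain ⟨cT, m, -, -, sqc, -, -, -⟩ := exists_chart_baseChange sq hch t sq' sqU
  rw [dim_eq_of_chart (repWith_of_isPullback sqc hc) (repWith_of_isPullback sqc hcs)]
  exact dim_pullback_field h.left t.left

/-- The dimension is invariant under extensions of fields. -/
theorem dim_field_ext {f : X ⟶ Y} (hX : IsAlgSpace X) (hY : IsAlgSpace Y) (hf : LocP @LocallyOfFiniteType f)
    {k K : Type u} [Field k] [Field K]
    {s : Spec (CommRingCat.of k) ⟶ S} {s' : Spec (CommRingCat.of K) ⟶ S} (t : Over.mk s' ⟶ Over.mk s)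
    (g : (yon S).obj (Over.mk s) ⟶ Y) {α : XV ⟶ X} {β : XV ⟶ (yon S).obj (Over.mk s)}
    (sq : IsPullback α β f g) {α' : XT ⟶ X} {β' : XT ⟶ (yon S).obj (Over.mk s')}
    (sq' : IsPullback α' β' f ((yon S).map t ≫ g)) : AlgSp.dim XT = AlgSp.dim XV := by
  obtain ⟨U, c, h, hc, hcs, hch⟩ := exists_chart_pullback hX (hY.representable_from_yon g) sq
  have h1 : LocP @LocallyOfFiniteType β :=
    K597.locP_bc K597.etLoc_lft sq hX.hasAtlas hY.hasAtlas (IsAlgSpace.yon_obj _).hasAtlas hf
  have h2 : LocallyOfFiniteType h.left := h1 c (𝟙 _) h hc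
    (by
      have := (repWith_yon_map_iff @Etale (𝟙 (Over.mk s))).2 (inferInstanceAs (Etale (𝟙 (Over.mk s).left)))
      rwa [(yon S).map_id] at this) (by rw [Category.comp_id, hch])
  rw [dim_eq_dim_fiber sq hc hcs hch t sq', dim_eq_dim_fiber sq hc hcs hch (𝟙 _) (XT := XV) (α' := α) (β' := β)
    (by rw [(yon S).map_id, Category.id_comp]; exact sq)]
  have e : t.left (IsLocalRing.closedPoint K) = (𝟙 (Over.mk s) : Over.mk s ⟶ Over.mk s).left (IsLocalRing.closedPoint k) :=
    Subsingleton.elim (α := PrimeSpectrum k) _ _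
  rw [e]

/-- The dimension of the fibre only depends on the point. -/
theorem dim_eq_of_mk_eq {f : X ⟶ Y} (hX : IsAlgSpace X) (hY : IsAlgSpace Y) (hf : LocP @LocallyOfFiniteType f)
    {k₀ k : FieldPt Y} (e : Points.mk k₀ = Points.mk k) {X₀ Xk : Sp S} {a₀ : X₀ ⟶ X} {b₀ : X₀ ⟶ (yon S).obj k₀.pt}
    (sq₀ : IsPullback a₀ b₀ f k₀.toHom) {a : Xk ⟶ X} {b : Xk ⟶ (yon S).obj k.pt} (sq : IsPullback a b f k.toHom) :
    AlgSp.dim X₀ = AlgSp.dim Xk := by
  obtain ⟨Ω, hΩ, w, i, j, hij⟩ := exists_common_ext e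
  obtain ⟨P, α, β, sq₁⟩ : ∃ (P : Sp S) (α : P ⟶ X) (β : P ⟶ _), IsPullback α β f ((yon S).map i ≫ k₀.toHom) :=
    ⟨_, _, _, IsPullback.of_hasPullback _ _⟩
  have h1 := dim_field_ext hX hY hf (k := k₀.K) (K := Ω) i k₀.toHom sq₀ sq₁
  rw [hij] at sq₁
  have h2 := dim_field_ext hX hY hf (k := k.K) (K := Ω) j k.toHom sq sq₁
  rw [← h1, h2]

/-- The dimension of the fibre at a point of a chart. -/
theorem dim_fibre_eq {f : X ⟶ Y} (hX : IsAlgSpace X) (hY : IsAlgSpace Y) (hf : LocP @LocallyOfFiniteType f)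
    {V U : Over S} {g : (yon S).obj V ⟶ Y} {α : XV ⟶ X} {β : XV ⟶ (yon S).obj V}
    (sq : IsPullback α β f g) {c : (yon S).obj U ⟶ XV} (hc : RepWith @Etale c) (hcs : RepWith @Surjective c)
    {h : U ⟶ V} [LocallyOfFiniteType h.left] (hch : c ≫ β = (yon S).map h) (v : V.left) {k : FieldPt Y}
    (hk : Points.mk k = Points.ofPt g v) {Xk : Sp S} {a : Xk ⟶ X} {b : Xk ⟶ (yon S).obj k.pt}
    (sqk : IsPullback a b f k.toHom) : AlgSp.dim Xk = topologicalKrullDim (h.left.fiber v) := by
  obtain ⟨P, α₁, β₁, sq₁⟩ : ∃ (P : Sp S) (α₁ : P ⟶ X) (β₁ : P ⟶ _), IsPullback α₁ β₁ f (FieldPt.ofPt g v).toHom :=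
    ⟨_, _, _, IsPullback.of_hasPullback _ _⟩
  rw [dim_eq_of_mk_eq hX hY hf (hk : Points.mk k = Points.mk (FieldPt.ofPt g v)) sqk sq₁]
  rw [FieldPt.toHom_ofPt] at sq₁
  have h1 := dim_eq_dim_fiber (K := V.left.residueField v) sq hc hcs hch (resMap V v) sq₁
  have h2 : (resMap V v).left (IsLocalRing.closedPoint (V.left.residueField v)) = v :=
    Scheme.fromSpecResidueField_apply _ _
  exact h1.trans (congrArg (fun w => topologicalKrullDim (h.left.fiber w)) h2)

end K639.Dim
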