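import Mathlib.RingTheory.Flat.Equalizer
import Mathlib.RingTheory.RingHom.Flat
import Mathlib.Algebra.Category.Ring.Constructions
import Mathlib.RingTheory.TensorProduct.IsBaseChangePi

set_option autoImplicit false
universe u

open CategoryTheory CategoryTheory.Limits

namespace K594.EqFlat

section LinAlg

open TensorProduct

/-- A kernel of a map of modules commutes with flat base change. -/
theorem isBaseChange_of_exact {R S A B C A' B' C' : Type*} [CommRing R] [CommRing S] [Algebra R S] [Module.Flat R S]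
    [AddCommGroup A] [AddCommGroup B] [AddCommGroup C] [AddCommGroup A'] [AddCommGroup B'] [AddCommGroup C']
    [Module R A] [Module R B] [Module R C] [Module R A'] [Module R B'] [Module R C'] [Module S A'] [Module S B']
    [Module S C'] [IsScalarTower R S A'] [IsScalarTower R S B'] [IsScalarTower R S C']
    (i : A →ₗ[R] B) (d : B →ₗ[R] C) (i' : A' →ₗ[S] B') (d' : B' →ₗ[S] C')
    (hi : Function.Injective i) (hex : Function.Exact i d) (hi' : Function.Injective i')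
    (hex' : Function.Exact i' d') (e : A →ₗ[R] A') (p : B →ₗ[R] B') (q : C →ₗ[R] C')
    (he : ∀ x, i' (e x) = p (i x)) (hd : ∀ x, d' (p x) = q (d x))
    (hp : IsBaseChange S p) (hq : IsBaseChange S q) : IsBaseChange S e := by
  let φ : S ⊗[R] A →ₗ[S] A' := e.liftBaseChange S
  have key1 : ∀ x : S ⊗[R] A, i' (φ x) = hp.equiv (i.lTensor S x) := by
    intro x
    induction x using TensorProduct.induction_on with
    | zero => simp
    | tmul s a => simp [φ, IsBaseChange.equiv_tmul, he]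
    | add x y hx hy => simp only [map_add, hx, hy]
  have key2 : ∀ x : S ⊗[R] B, d' (hp.equiv x) = hq.equiv (d.lTensor S x) := by
    intro x
    induction x using TensorProduct.induction_on with
    | zero => simp
    | tmul s a => simp [IsBaseChange.equiv_tmul, hd]
    | add x y hx hy => simp only [map_add, hx, hy]
  have hinj := Module.Flat.lTensor_preserves_injective_linearMap (M := S) i hi
  have hexT := Module.Flat.lTensor_exact S hex
  have hφ : Function.Bijective φ := by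
    constructor
    · intro x y h
      apply hinj
      apply hp.equiv.injective
      rw [← key1, ← key1, h]
    · intro y
      obtain ⟨w, hw⟩ := hp.equiv.surjective (i' y)
      have h1 : d.lTensor S w = 0 := by
        apply hq.equiv.injective
        rw [← key2, hw, map_zero]
        exact (hex' _).2 ⟨y, rfl⟩
      obtain ⟨x, hx⟩ := (hexT w).1 h1
      refine ⟨x, hi' ?_⟩
      rw [key1, hx, hw]
  exact IsBaseChange.of_equiv (LinearEquiv.ofBijective φ hφ) (fun x => by simp [φ])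

end LinAlg

variable {O M M' N N' : CommRingCat.{u}}

/-- The ring `{(b, c) | u b = v b, z b = t c}`. -/
def E (u v : M ⟶ N) (z : M ⟶ N') (t : M' ⟶ N') : Subring (M × M') :=
  RingHom.eqLocus
    ((u.hom.comp (RingHom.fst M M')).prod (z.hom.comp (RingHom.fst M M')))
    ((v.hom.comp (RingHom.fst M M')).prod (t.hom.comp (RingHom.snd M M')))

variable {u v : M ⟶ N} {z : M ⟶ N'} {t : M' ⟶ N'}

theorem mem_E (x : M × M') : x ∈ E u v z t ↔ u x.1 = v x.1 ∧ z x.1 = t x.2 := by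
  constructor
  · intro h
    exact ⟨congrArg Prod.fst h, congrArg Prod.snd h⟩
  · rintro ⟨h1, h2⟩
    exact Prod.ext h1 h2

/-- The structure map. -/
def η (a : O ⟶ M) (a' : O ⟶ M') (h1 : a ≫ u = a ≫ v) (h2 : a ≫ z = a' ≫ t) : O ⟶ CommRingCat.of (E u v z t) :=
  CommRingCat.ofHom ((a.hom.prod a'.hom).codRestrict (E u v z t) (fun o => (mem_E _).2
    ⟨congrArg (fun k : O ⟶ N => k.hom o) h1, congrArg (fun k : O ⟶ N' => k.hom o) h2⟩))

variable {M₁ M₁' N₁ N₁' : CommRingCat.{u}} {u₁ v₁ : M₁ ⟶ N₁} {z₁ : M₁ ⟶ N₁'} {t₁ : M₁' ⟶ N₁'}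

/-- Functoriality. -/
def r (m : M ⟶ M₁) (m' : M' ⟶ M₁') (n : N ⟶ N₁) (n' : N' ⟶ N₁') (hu : m ≫ u₁ = u ≫ n) (hv : m ≫ v₁ = v ≫ n)
    (hz : m ≫ z₁ = z ≫ n') (ht : m' ≫ t₁ = t ≫ n') : CommRingCat.of (E u v z t) ⟶ CommRingCat.of (E u₁ v₁ z₁ t₁) :=
  CommRingCat.ofHom (((m.hom.prodMap m'.hom).comp (E u v z t).subtype).codRestrict (E u₁ v₁ z₁ t₁) (fun x => by
    obtain ⟨h1, h2⟩ := (mem_E _).1 x.2
    have e1 : ∀ y, u₁ (m y) = n (u y) := fun y => congrArg (fun k : M ⟶ N₁ => k.hom y) hu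
    have e2 : ∀ y, v₁ (m y) = n (v y) := fun y => congrArg (fun k : M ⟶ N₁ => k.hom y) hv
    have e3 : ∀ y, z₁ (m y) = n' (z y) := fun y => congrArg (fun k : M ⟶ N₁' => k.hom y) hz
    have e4 : ∀ y, t₁ (m' y) = n' (t y) := fun y => congrArg (fun k : M' ⟶ N₁' => k.hom y) ht
    refine (mem_E _).2 ⟨?_, ?_⟩
    · change u₁ (m x.1.1) = v₁ (m x.1.1)
      rw [e1, e2, h1]
    · change z₁ (m x.1.1) = t₁ (m' x.1.2)
      rw [e3, e4, h2]))

/-- Flat base change. -/
theorem isPushout_E {O₁ : CommRingCat.{u}} (f : O ⟶ O₁) (hf : f.hom.Flat)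
    (a : O ⟶ M) (a' : O ⟶ M') (b : O ⟶ N) (b' : O ⟶ N') (a₁ : O₁ ⟶ M₁) (a₁' : O₁ ⟶ M₁') (b₁ : O₁ ⟶ N₁) (b₁' : O₁ ⟶ N₁')
    (hau : a ≫ u = b) (hav : a ≫ v = b) (haz : a ≫ z = b') (hat : a' ≫ t = b')
    (hau₁ : a₁ ≫ u₁ = b₁) (hav₁ : a₁ ≫ v₁ = b₁) (haz₁ : a₁ ≫ z₁ = b₁') (hat₁ : a₁' ≫ t₁ = b₁')
    (m : M ⟶ M₁) (m' : M' ⟶ M₁') (n : N ⟶ N₁) (n' : N' ⟶ N₁') (hu : m ≫ u₁ = u ≫ n) (hv : m ≫ v₁ = v ≫ n)
    (hz : m ≫ z₁ = z ≫ n') (ht : m' ≫ t₁ = t ≫ n')
    (sM : IsPushout f a a₁ m) (sM' : IsPushout f a' a₁' m') (sN : IsPushout f b b₁ n) (sN' : IsPushout f b' b₁' n') :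
    IsPushout f (η (u := u) (v := v) (z := z) (t := t) a a' (hau.trans hav.symm) (haz.trans hat.symm))
      (η (u := u₁) (v := v₁) (z := z₁) (t := t₁) a₁ a₁' (hau₁.trans hav₁.symm) (haz₁.trans hat₁.symm))
      (r m m' n n' hu hv hz ht) := by
  have w₁ : f ≫ a₁ = a ≫ m := sM.w
  have w₂ : f ≫ a₁' = a' ≫ m' := sM'.w
  have w₃ : f ≫ b₁ = b ≫ n := sN.w
  have w₄ : f ≫ b₁' = b' ≫ n' := sN'.w
  let _ : Algebra O O₁ := f.hom.toAlgebra
  let _ : Algebra O M := a.hom.toAlgebra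
  let _ : Algebra O M' := a'.hom.toAlgebra
  let _ : Algebra O N := b.hom.toAlgebra
  let _ : Algebra O N' := b'.hom.toAlgebra
  let _ : Algebra O₁ M₁ := a₁.hom.toAlgebra
  let _ : Algebra O₁ M₁' := a₁'.hom.toAlgebra
  let _ : Algebra O₁ N₁ := b₁.hom.toAlgebra
  let _ : Algebra O₁ N₁' := b₁'.hom.toAlgebra
  let _ : Algebra M M₁ := m.hom.toAlgebra
  let _ : Algebra M' M₁' := m'.hom.toAlgebra
  let _ : Algebra N N₁ := n.hom.toAlgebra
  let _ : Algebra N' N₁' := n'.hom.toAlgebra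
  let _ : Algebra O M₁ := (f ≫ a₁).hom.toAlgebra
  let _ : Algebra O M₁' := (f ≫ a₁').hom.toAlgebra
  let _ : Algebra O N₁ := (f ≫ b₁).hom.toAlgebra
  let _ : Algebra O N₁' := (f ≫ b₁').hom.toAlgebra
  have : IsScalarTower O O₁ M₁ := .of_algebraMap_eq' rfl
  have : IsScalarTower O O₁ M₁' := .of_algebraMap_eq' rfl
  have : IsScalarTower O O₁ N₁ := .of_algebraMap_eq' rfl
  have : IsScalarTower O O₁ N₁' := .of_algebraMap_eq' rfl
  have : IsScalarTower O M M₁ := .of_algebraMap_eq' (congrArg CommRingCat.Hom.hom w₁)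
  have : IsScalarTower O M' M₁' := .of_algebraMap_eq' (congrArg CommRingCat.Hom.hom w₂)
  have : IsScalarTower O N N₁ := .of_algebraMap_eq' (congrArg CommRingCat.Hom.hom w₃)
  have : IsScalarTower O N' N₁' := .of_algebraMap_eq' (congrArg CommRingCat.Hom.hom w₄)
  have hM : Algebra.IsPushout O O₁ M M₁ := CommRingCat.isPushout_iff_isPushout.1 sM
  have hM' : Algebra.IsPushout O O₁ M' M₁' := CommRingCat.isPushout_iff_isPushout.1 sM'
  have hN : Algebra.IsPushout O O₁ N N₁ := CommRingCat.isPushout_iff_isPushout.1 sN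
  have hN' : Algebra.IsPushout O O₁ N' N₁' := CommRingCat.isPushout_iff_isPushout.1 sN'
  have : Module.Flat O O₁ := hf
  let g := η (u := u) (v := v) (z := z) (t := t) a a' (hau.trans hav.symm) (haz.trans hat.symm)
  let g₁ := η (u := u₁) (v := v₁) (z := z₁) (t := t₁) a₁ a₁' (hau₁.trans hav₁.symm) (haz₁.trans hat₁.symm)
  let ρ := r (u := u) (v := v) (z := z) (t := t) m m' n n' hu hv hz ht
  have w₅ : f ≫ g₁ = g ≫ ρ := by
    refine CommRingCat.hom_ext (RingHom.ext fun o => Subtype.ext (Prod.ext ?_ ?_))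
    · exact congrArg (fun k : O ⟶ M₁ => k.hom o) w₁
    · exact congrArg (fun k : O ⟶ M₁' => k.hom o) w₂
  let _ : Algebra O (E u v z t) := g.hom.toAlgebra
  let _ : Algebra O₁ (E u₁ v₁ z₁ t₁) := g₁.hom.toAlgebra
  let _ : Algebra (E u v z t) (E u₁ v₁ z₁ t₁) := ρ.hom.toAlgebra
  let _ : Algebra O (E u₁ v₁ z₁ t₁) := (f ≫ g₁).hom.toAlgebra
  have : IsScalarTower O O₁ (E u₁ v₁ z₁ t₁) := .of_algebraMap_eq' rfl
  have : IsScalarTower O (E u v z t) (E u₁ v₁ z₁ t₁) := .of_algebraMap_eq' (congrArg CommRingCat.Hom.hom w₅)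
  let i : E u v z t →ₗ[O] M × M' :=
    { toFun := Subtype.val
      map_add' := fun _ _ => rfl
      map_smul' := fun _ _ => rfl }
  let i₁ : E u₁ v₁ z₁ t₁ →ₗ[O₁] M₁ × M₁' :=
    { toFun := Subtype.val
      map_add' := fun _ _ => rfl
      map_smul' := fun _ _ => rfl }
  have hc : ∀ (o : O), u (a o) = b o := fun o => congrArg (fun k : O ⟶ N => k.hom o) hau
  have hc' : ∀ (o : O), v (a o) = b o := fun o => congrArg (fun k : O ⟶ N => k.hom o) hav
  have hc2 : ∀ (o : O), z (a o) = b' o := fun o => congrArg (fun k : O ⟶ N' => k.hom o) haz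
  have hc3 : ∀ (o : O), t (a' o) = b' o := fun o => congrArg (fun k : O ⟶ N' => k.hom o) hat
  have hd : ∀ (o : O₁), u₁ (a₁ o) = b₁ o := fun o => congrArg (fun k : O₁ ⟶ N₁ => k.hom o) hau₁
  have hd' : ∀ (o : O₁), v₁ (a₁ o) = b₁ o := fun o => congrArg (fun k : O₁ ⟶ N₁ => k.hom o) hav₁
  have hd2 : ∀ (o : O₁), z₁ (a₁ o) = b₁' o := fun o => congrArg (fun k : O₁ ⟶ N₁' => k.hom o) haz₁
  have hd3 : ∀ (o : O₁), t₁ (a₁' o) = b₁' o := fun o => congrArg (fun k : O₁ ⟶ N₁' => k.hom o) hat₁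
  let d : M × M' →ₗ[O] N × N' :=
    { toFun := fun x => (u x.1 - v x.1, z x.1 - t x.2)
      map_add' := fun x y => by
        refine Prod.ext ?_ ?_
        · simp only [Prod.fst_add, map_add]; abel
        · simp only [Prod.fst_add, Prod.snd_add, map_add]; abel
      map_smul' := fun o x => by
        refine Prod.ext ?_ ?_
        · change u (a o * x.1) - v (a o * x.1) = b o * (u x.1 - v x.1)
          rw [map_mul, map_mul, hc, hc', mul_sub]
        · change z (a o * x.1) - t (a' o * x.2) = b' o * (z x.1 - t x.2)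
          rw [map_mul, map_mul, hc2, hc3, mul_sub] }
  let d₁ : M₁ × M₁' →ₗ[O₁] N₁ × N₁' :=
    { toFun := fun x => (u₁ x.1 - v₁ x.1, z₁ x.1 - t₁ x.2)
      map_add' := fun x y => by
        refine Prod.ext ?_ ?_
        · simp only [Prod.fst_add, map_add]; abel
        · simp only [Prod.fst_add, Prod.snd_add, map_add]; abel
      map_smul' := fun o x => by
        refine Prod.ext ?_ ?_
        · change u₁ (a₁ o * x.1) - v₁ (a₁ o * x.1) = b₁ o * (u₁ x.1 - v₁ x.1)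
          rw [map_mul, map_mul, hd, hd', mul_sub]
        · change z₁ (a₁ o * x.1) - t₁ (a₁' o * x.2) = b₁' o * (z₁ x.1 - t₁ x.2)
          rw [map_mul, map_mul, hd2, hd3, mul_sub] }
  have hex : Function.Exact i d := by
    intro x
    constructor
    · intro h
      exact ⟨⟨x, (mem_E x).2 ⟨sub_eq_zero.1 (congrArg Prod.fst h), sub_eq_zero.1 (congrArg Prod.snd h)⟩⟩, rfl⟩
    · rintro ⟨y, rfl⟩
      obtain ⟨h1, h2⟩ := (mem_E _).1 y.2
      exact Prod.ext (sub_eq_zero.2 h1) (sub_eq_zero.2 h2)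
  have hex₁ : Function.Exact i₁ d₁ := by
    intro x
    constructor
    · intro h
      exact ⟨⟨x, (mem_E x).2 ⟨sub_eq_zero.1 (congrArg Prod.fst h), sub_eq_zero.1 (congrArg Prod.snd h)⟩⟩, rfl⟩
    · rintro ⟨y, rfl⟩
      obtain ⟨h1, h2⟩ := (mem_E _).1 y.2
      exact Prod.ext (sub_eq_zero.2 h1) (sub_eq_zero.2 h2)
  have hbc : IsBaseChange O₁ (IsScalarTower.toAlgHom O (E u v z t) (E u₁ v₁ z₁ t₁)).toLinearMap := by
    refine isBaseChange_of_exact i d i₁ d₁ Subtype.val_injective hex Subtype.val_injective hex₁ _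
      ((IsScalarTower.toAlgHom O M M₁).toLinearMap.prodMap (IsScalarTower.toAlgHom O M' M₁').toLinearMap)
      ((IsScalarTower.toAlgHom O N N₁).toLinearMap.prodMap (IsScalarTower.toAlgHom O N' N₁').toLinearMap)
      (fun x => rfl) (fun x => ?_) (hM.out.prodMap _ _ hM'.out) (hN.out.prodMap _ _ hN'.out)
    have e1 : ∀ y, u₁ (m y) = n (u y) := fun y => congrArg (fun k : M ⟶ N₁ => k.hom y) hu
    have e2 : ∀ y, v₁ (m y) = n (v y) := fun y => congrArg (fun k : M ⟶ N₁ => k.hom y) hv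
    have e3 : ∀ y, z₁ (m y) = n' (z y) := fun y => congrArg (fun k : M ⟶ N₁' => k.hom y) hz
    have e4 : ∀ y, t₁ (m' y) = n' (t y) := fun y => congrArg (fun k : M' ⟶ N₁' => k.hom y) ht
    refine Prod.ext ?_ ?_
    · change u₁ (m x.1) - v₁ (m x.1) = n (u x.1 - v x.1)
      rw [e1, e2, map_sub]
    · change z₁ (m x.1) - t₁ (m' x.2) = n' (z x.1 - t x.2)
      rw [e3, e4, map_sub]
  exact CommRingCat.isPushout_iff_isPushout.2 ⟨hbc⟩

end K594.EqFlat
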