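import Groth.Prelude.Def_AlgSpDec
import Groth.Prelude.Def_AlgSpMor5
import Groth.Agent.AlgSp.K609.Points
import Groth.Agent.AlgSp.K613.Cover

/-!
# Chart diagrams of a morphism of sheaves, comparison of two of them

* `exists_pullback`: represented pullback of two maps from schemes.
* `repWith_of_comp`: cancellation for `RepWith`.
* `EtInv Q`: the property `Q` of pointed morphisms is étale local on source and target;
  `EtInv.compare`: two chart diagrams through the same point agree.
* `exists_diagram`: every point of a morphism of algebraic spaces has a chart diagram.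
-/

set_option autoImplicit false

universe u

open CategoryTheory CategoryTheory.Limits AlgebraicGeometry Opposite AlgSp

namespace K639.Diag

variable {S : Scheme.{u}} {F G H X Y Z : Sp S}

/-- The represented pullback of two maps from schemes. -/
theorem exists_pullback {P : MorphismProperty Scheme.{u}} {U V : Over S} {a : (yon S).obj U ⟶ F}
    (ha : RepWith P a) (b : (yon S).obj V ⟶ F) :
    ∃ (R : Over S) (p : R ⟶ U) (q : R ⟶ V),
      IsPullback ((yon S).map p) ((yon S).map q) a b ∧ P q.left := by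
  obtain ⟨R, q, fst, sq⟩ := ha.1 b
  obtain ⟨p, rfl⟩ := (yon S).map_surjective fst
  exact ⟨R, p, q, sq, ha.2 b _ q sq⟩

/-- `RepWith` version, with the property of the first projection. -/
theorem exists_pullback' {P : MorphismProperty Scheme.{u}} {U V : Over S} (a : (yon S).obj U ⟶ F)
    {b : (yon S).obj V ⟶ F} (hb : RepWith P b) :
    ∃ (R : Over S) (p : R ⟶ U) (q : R ⟶ V),
      IsPullback ((yon S).map p) ((yon S).map q) a b ∧ P p.left := by
  obtain ⟨R, q, p, sq, h⟩ := exists_pullback hb a
  exact ⟨R, p, q, sq.flip, h⟩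

theorem repWith_comp {P : MorphismProperty Scheme.{u}} [P.IsStableUnderBaseChange] [P.IsMultiplicative]
    {f : F ⟶ G} {g : G ⟶ H} (hf : RepWith P f) (hg : RepWith P g) : RepWith P (f ≫ g) :=
  (RepWith (S := S) P).comp_mem _ _ hf hg

theorem repWith_of_isPullback {P : MorphismProperty Scheme.{u}} {X' Y' : Sp S} {f : F ⟶ G} {f' : X' ⟶ Y'}
    {a : X' ⟶ F} {b : Y' ⟶ G} (sq : IsPullback a f' f b) (hf : RepWith P f) : RepWith P f' :=
  MorphismProperty.of_isPullback (P := RepWith P) sq hf

theorem repWith_yon {P : MorphismProperty Scheme.{u}} [P.IsStableUnderBaseChange] {U V : Over S}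
    {g : U ⟶ V} (h : P g.left) : RepWith P ((yon S).map g) := (repWith_yon_map_iff P g).2 h

/-- Cancellation: `c` is representable with `P` when `c ≫ d` is and `d` is representable with `Q`. -/
theorem repWith_of_comp {P Q : MorphismProperty Scheme.{u}} [P.IsStableUnderBaseChange]
    [P.HasOfPostcompProperty Q] {c : F ⟶ G} {d : G ⟶ H} (hd : RepWith Q d) (hcd : RepWith P (c ≫ d)) :
    RepWith P c := by
  -- it is enough to exhibit one represented pullback with `P` along every map from a scheme
  have key : ∀ (T : Over S) (g : (yon S).obj T ⟶ G), ∃ (W : Over S) (w : W ⟶ T)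
      (k : (yon S).obj W ⟶ F), IsPullback k ((yon S).map w) c g ∧ P w.left := by
    intro T g
    obtain ⟨T1, q1, fst1, sq1⟩ := hcd.1 (g ≫ d)
    have h1 : P q1.left := hcd.2 _ _ _ sq1
    obtain ⟨T2, q2, fst2, sq2⟩ := hd.1 (g ≫ d)
    have h2 : Q q2.left := hd.2 _ _ _ sq2
    -- the map `T1 ⟶ T2`
    obtain ⟨t, ht⟩ := (yon S).map_surjective
      (sq2.lift (fst1 ≫ c) ((yon S).map q1) (by rw [Category.assoc]; exact sq1.w))
    have ht1 : (yon S).map t ≫ fst2 = fst1 ≫ c := by rw [ht, sq2.lift_fst]
    have ht2 : t ≫ q2 = q1 := by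
      apply (yon S).map_injective
      rw [Functor.map_comp, ht, sq2.lift_snd]
    have ht2' : t.left ≫ q2.left = q1.left := by rw [← Over.comp_left, ht2]
    have ht3 : P t.left := MorphismProperty.of_postcomp P (W' := Q) t.left q2.left h2 (by rw [ht2']; exact h1)
    have sq3 : IsPullback fst1 ((yon S).map t) c fst2 := by
      refine IsPullback.of_bot (v₂₁ := (yon S).map q2) (v₂₂ := d) ?_ ht1.symm sq2
      rw [← Functor.map_comp, ht2]
      exact sq1
    -- the section
    obtain ⟨s, hs⟩ := (yon S).map_surjective (sq2.lift g (𝟙 _) (by simp))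
    have hs1 : (yon S).map s ≫ fst2 = g := by rw [hs, sq2.lift_fst]
    let W := pullback t s
    have sq4 : IsPullback (pullback.fst t s) (pullback.snd t s) t s := IsPullback.of_hasPullback t s
    have sq5 := sq4.map (yon S)
    refine ⟨W, pullback.snd t s, (yon S).map (pullback.fst t s) ≫ fst1, ?_, ?_⟩
    · rw [← hs1]
      exact sq5.paste_horiz sq3
    · exact MorphismProperty.of_isPullback (P := P) (sq4.map (Over.forget S)) ht3
  have : P.RespectsIso := MorphismProperty.IsStableUnderBaseChange.respectsIso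
  refine ⟨fun {T} g => ?_, fun T V g fst snd sq => ?_⟩
  · obtain ⟨W, w, k, sq, -⟩ := key T g
    exact ⟨W, w, k, sq⟩
  · obtain ⟨W, w, k, sq', hw⟩ := key T g
    have e := sq.isoIsPullback _ _ sq'
    obtain ⟨e', he'⟩ := (yon S).map_surjective (sq'.lift fst ((yon S).map snd) sq.w)
    have hiso : IsIso ((yon S).map e') := by
      rw [he']
      have : sq'.lift fst ((yon S).map snd) sq.w = (sq.isoIsPullback _ _ sq').hom := by
        apply sq'.hom_ext
        · rw [sq'.lift_fst, IsPullback.isoIsPullback_hom_fst]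
        · rw [sq'.lift_snd, IsPullback.isoIsPullback_hom_snd]
      rw [this]
      infer_instance
    have : IsIso e' := isIso_of_fully_faithful (yon S) e'
    have h3 : e' ≫ w = snd := by
      apply (yon S).map_injective
      rw [Functor.map_comp, he', sq'.lift_snd]
    have : IsIso e'.left := inferInstanceAs (IsIso ((Over.forget S).map e'))
    have h4 : P (e'.left ≫ w.left) := (MorphismProperty.cancel_left_of_respectsIso P e'.left w.left).2 hw
    rw [← Over.comp_left, h3] at h4
    exact h4

/-- A map between two étale charts over the same sheaf is étale. -/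
theorem etale_left_of_comp {U V : Over S} {h : U ⟶ V} {a : (yon S).obj U ⟶ F} {b : (yon S).obj V ⟶ F}
    (ha : RepWith @Etale a) (hb : RepWith @Etale b) (w : (yon S).map h ≫ b = a) : Etale h.left := by
  refine (repWith_yon_map_iff @Etale h).1 (repWith_of_comp (Q := @Etale) hb ?_)
  rw [w]
  exact ha

/-- Composition of a chart with an étale map of schemes. -/
theorem repWith_etale_comp {U' U : Over S} {π : U' ⟶ U} {a : (yon S).obj U ⟶ F} (hπ : Etale π.left)
    (ha : RepWith @Etale a) : RepWith @Etale ((yon S).map π ≫ a) :=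
  repWith_comp (repWith_yon hπ) ha

/-- The property `Q` of pointed morphisms of schemes is étale local on the source and on the target. -/
structure EtInv (Q : ∀ {U V : Scheme.{u}}, (U ⟶ V) → ↥U → Prop) : Prop where
  source : ∀ {U' U V : Scheme.{u}} (π : U' ⟶ U) (h : U ⟶ V) (u' : ↥U'), Etale π →
    (Q (π ≫ h) u' ↔ Q h (π u'))
  target : ∀ {U V V' : Scheme.{u}} (h : U ⟶ V) (e : V ⟶ V') (u : ↥U), Etale e →
    (Q (h ≫ e) u ↔ Q h u)

section Compare

variable {Q : ∀ {U V : Scheme.{u}}, (U ⟶ V) → ↥U → Prop} {f : F ⟶ G}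

/-- Two chart diagrams of `f` through the same point of `F` agree for a `Q` which is étale local on source and
target. -/
theorem EtInv.compare (hQ : EtInv @Q) {U V U' V' : Over S} {a : (yon S).obj U ⟶ F}
    {b : (yon S).obj V ⟶ G} {h : U ⟶ V} {a' : (yon S).obj U' ⟶ F} {b' : (yon S).obj V' ⟶ G} {h' : U' ⟶ V'}
    (ha : RepWith @Etale a) (hb : RepWith @Etale b) (w : a ≫ f = (yon S).map h ≫ b)
    (ha' : RepWith @Etale a') (hb' : RepWith @Etale b') (w' : a' ≫ f = (yon S).map h' ≫ b')
    (u : ↥U.left) (u' : ↥U'.left) (e : Points.ofPt a u = Points.ofPt a' u') :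
    Q h.left u ↔ Q h'.left u' := by
  obtain ⟨R, p, p', sqR, hp'⟩ := exists_pullback ha a'
  have hp : Etale p.left := ha'.2 a (yon S |>.map p') p sqR.flip
  obtain ⟨T, q, q', sqT, hq'⟩ := exists_pullback hb b'
  have hq : Etale q.left := hb'.2 b (yon S |>.map q') q sqT.flip
  have hw : ((yon S).map p ≫ (yon S).map h) ≫ b = ((yon S).map p' ≫ (yon S).map h') ≫ b' := by
    rw [Category.assoc, ← w, ← Category.assoc, sqR.w, Category.assoc, w', Category.assoc]
  obtain ⟨k, hk⟩ := (yon S).map_surjective (sqT.lift _ _ hw)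
  have hk1 : k ≫ q = p ≫ h := by
    apply (yon S).map_injective
    rw [Functor.map_comp, hk, sqT.lift_fst, Functor.map_comp]
  have hk2 : k ≫ q' = p' ≫ h' := by
    apply (yon S).map_injective
    rw [Functor.map_comp, hk, sqT.lift_snd, Functor.map_comp]
  obtain ⟨r, hr, hr'⟩ := (K609.Points.ofPt_eq_ofPt_iff sqR u u').1 e
  have h1 := hQ.source p.left h.left r hp
  have h2 := hQ.target k.left q.left r hq
  have h3 := hQ.target k.left q'.left r hq'
  have h4 := hQ.source p'.left h'.left r hp'
  rw [← Over.comp_left] at h1 h2 h3 h4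
  rw [hk1] at h2
  rw [hk2] at h3
  rw [hr] at h1
  rw [hr'] at h4
  exact h1.symm.trans (h2.trans (h3.symm.trans h4))

/-- The all-diagrams form is tested on one diagram. -/
theorem EtInv.locPAt_iff (hQ : EtInv @Q) {U V : Over S} {a : (yon S).obj U ⟶ F}
    {b : (yon S).obj V ⟶ G} {h : U ⟶ V} (ha : RepWith @Etale a) (hb : RepWith @Etale b)
    (w : a ≫ f = (yon S).map h ≫ b) (u : ↥U.left) :
    LocPAt (fun h u => Q h u) f (Points.ofPt a u) ↔ Q h.left u := by
  constructor
  · intro H
    exact H a b h u ha hb w rfl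
  · intro H U' V' a' b' h' u' ha' hb' w' e
    exact (hQ.compare ha hb w ha' hb' w' u u' e.symm).1 H

/-- The some-diagram form is tested on any diagram. -/
theorem EtInv.hasAtMor_iff (hQ : EtInv @Q) {U V : Over S} {a : (yon S).obj U ⟶ F}
    {b : (yon S).obj V ⟶ G} {h : U ⟶ V} (ha : RepWith @Etale a) (hb : RepWith @Etale b)
    (w : a ≫ f = (yon S).map h ≫ b) (u : ↥U.left) :
    HasAtMor (fun _ _ h u => Q h u) f (Points.ofPt a u) ↔ Q h.left u := by
  constructor
  · rintro ⟨U', V', a', b', h', u', ha', hb', w', e, H⟩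
    exact (hQ.compare ha hb w ha' hb' w' u u' e.symm).2 H
  · intro H
    exact ⟨U, V, a, b, h, u, ha, hb, w, rfl, H⟩

end Compare

/-- A chart diagram of `f : F ⟶ G` built from two charts; it is surjective when they are. -/
theorem exists_diagram {f : F ⟶ G} {U₀ V : Over S} {a₀ : (yon S).obj U₀ ⟶ F} {b : (yon S).obj V ⟶ G}
    (ha : RepWith @Etale a₀) (hb : RepWith @Etale b) (hbs : RepWith @Surjective b) :
    ∃ (U : Over S) (π : U ⟶ U₀) (h : U ⟶ V), Etale π.left ∧ Surjective π.left ∧
      RepWith @Etale ((yon S).map π ≫ a₀) ∧ ((yon S).map π ≫ a₀) ≫ f = (yon S).map h ≫ b ∧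
      IsPullback ((yon S).map π) ((yon S).map h) (a₀ ≫ f) b := by
  obtain ⟨U, π, h, sq, hπ⟩ := exists_pullback' (a₀ ≫ f) hb
  have hs : Surjective π.left := hbs.2 (a₀ ≫ f) (yon S |>.map h) π sq.flip
  exact ⟨U, π, h, hπ, hs, repWith_etale_comp hπ ha, by rw [Category.assoc, sq.w], sq⟩

/-- Through every point of an algebraic space `X` and every morphism `f : X ⟶ Y` of algebraic spaces there is a chart
diagram, with a prescribed surjective chart of `Y`. -/
theorem exists_diagram_at {f : X ⟶ Y} (hX : IsAlgSpace X) {V : Over S} {b : (yon S).obj V ⟶ Y}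
    (hb : RepWith @Etale b) (hbs : RepWith @Surjective b) :
    ∃ (U : Over S) (a : (yon S).obj U ⟶ X) (h : U ⟶ V), RepWith @Etale a ∧ RepWith @Surjective a ∧
      a ≫ f = (yon S).map h ≫ b := by
  obtain ⟨U₀, a₀, ha, has⟩ := hX.atlas
  obtain ⟨U, π, h, hπ, hπs, h1, h2, -⟩ := exists_diagram (f := f) ha hb hbs
  exact ⟨U, _, h, h1, repWith_comp (repWith_yon hπs) has, h2⟩

end K639.Diag
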