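import Groth.Agent.AlgSp.K639.Fib

/-!
# Chart diagrams for compositions and base changes of morphisms of algebraic spaces
-/

set_option autoImplicit false

universe u

open CategoryTheory CategoryTheory.Limits AlgebraicGeometry Opposite AlgSp
open K639.Diag K639.Fib

namespace K639.Diag2

variable {S : Scheme.{u}} {X Y Z X' Y' : Sp S}

theorem ofPt_comp_eq {F : Sp S} {T T' : Over S} (φ : T ⟶ T') (g : (yon S).obj T' ⟶ F) (t : ↥T.left) :
    Points.ofPt ((yon S).map φ ≫ g) t = Points.ofPt g (φ.left t) :=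
  K609.Points.ofPt_yon_map_comp φ g t

/-- In a chart diagram the point of the target chart lies over the image point. -/
theorem ofPt_target {f : X ⟶ Y} {U V : Over S} {a : (yon S).obj U ⟶ X} {b : (yon S).obj V ⟶ Y} {h : U ⟶ V}
    (w : a ≫ f = (yon S).map h ≫ b) (u : ↥U.left) : Points.ofPt b (h.left u) = Points.map f (Points.ofPt a u) := by
  rw [Points.map_ofPt, w, ofPt_comp_eq]

/-- A chart diagram for a composition, through a given point. -/
structure CompDiag (f : X ⟶ Y) (g : Y ⟶ Z) where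
  U : Over S
  V : Over S
  W : Over S
  a : (yon S).obj U ⟶ X
  b : (yon S).obj V ⟶ Y
  c : (yon S).obj W ⟶ Z
  k : U ⟶ V
  l : V ⟶ W
  ha : RepWith @Etale a
  hb : RepWith @Etale b
  hc : RepWith @Etale c
  wk : a ≫ f = (yon S).map k ≫ b
  wl : b ≫ g = (yon S).map l ≫ c
  has : RepWith @Surjective a
  hbs : RepWith @Surjective b
  hcs : RepWith @Surjective c

theorem CompDiag.w {f : X ⟶ Y} {g : Y ⟶ Z} (D : CompDiag f g) :
    D.a ≫ (f ≫ g) = (yon S).map (D.k ≫ D.l) ≫ D.c := by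
  rw [← Category.assoc, D.wk, Category.assoc, D.wl, Functor.map_comp, Category.assoc]

theorem exists_compDiag (f : X ⟶ Y) (g : Y ⟶ Z) (hX : IsAlgSpace X) (hY : IsAlgSpace Y) (hZ : IsAlgSpace Z) :
    Nonempty (CompDiag f g) := by
  obtain ⟨W, c, hc, hcs⟩ := hZ.atlas
  obtain ⟨V, b, l, hb, hbs, wl⟩ := exists_diagram_at (f := g) hY hc hcs
  obtain ⟨U, a, k, ha, has, wk⟩ := exists_diagram_at (f := f) hX hb hbs
  exact ⟨⟨U, V, W, a, b, c, k, l, ha, hb, hc, wk, wl, has, hbs, hcs⟩⟩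

/-- The composite `U ⟶ X` of a chart of `U₀ ⟶ X` and `U₀ ×_Y V`: the map `h_U ⟶ X ×_Y V` is étale surjective. -/
theorem exists_chart_pullback {f : X ⟶ Y} (hX : IsAlgSpace X) {V : Over S} {b : (yon S).obj V ⟶ Y}
    (hb : Representable b) {XV : Sp S} {α : XV ⟶ X} {β : XV ⟶ (yon S).obj V} (sq : IsPullback α β f b) :
    ∃ (U : Over S) (c : (yon S).obj U ⟶ XV) (h : U ⟶ V), RepWith @Etale c ∧ RepWith @Surjective c ∧
      c ≫ β = (yon S).map h := by
  obtain ⟨U₀, a₀, ha, has⟩ := hX.atlas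
  obtain ⟨U, q, fst, sqU⟩ := hb (a₀ ≫ f)
  -- `U = U₀ ×_Y V ⟶ X ×_Y V`
  have w : ((yon S).map q ≫ a₀) ≫ f = fst ≫ b := by rw [Category.assoc, sqU.w]
  let c : (yon S).obj U ⟶ XV := sq.lift ((yon S).map q ≫ a₀) fst w
  have hc1 : c ≫ α = (yon S).map q ≫ a₀ := sq.lift_fst _ _ _
  have hc2 : c ≫ β = fst := sq.lift_snd _ _ _
  have sqc : IsPullback ((yon S).map q) c a₀ α := by
    refine IsPullback.of_bot (v₂₁ := β) (v₂₂ := f) (h₃₁ := b) ?_ hc1.symm sq
    rw [hc2]
    exact sqU.flip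
  obtain ⟨h, hh⟩ := (yon S).map_surjective fst
  exact ⟨U, c, h, repWith_of_isPullback sqc ha, repWith_of_isPullback sqc has, by rw [hc2, hh]⟩

/-- A chart diagram for a base change square. -/
structure BCDiag (f : X ⟶ Y) (g : Y' ⟶ Y) (g' : X' ⟶ X) (f' : X' ⟶ Y') where
  U : Over S
  V : Over S
  U' : Over S
  V' : Over S
  a : (yon S).obj U ⟶ X
  b : (yon S).obj V ⟶ Y
  a' : (yon S).obj U' ⟶ X'
  b' : (yon S).obj V' ⟶ Y'
  h : U ⟶ V
  t : V' ⟶ V
  s : U' ⟶ U
  h' : U' ⟶ V'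
  ha : RepWith @Etale a
  hb : RepWith @Etale b
  ha' : RepWith @Etale a'
  hb' : RepWith @Etale b'
  has : RepWith @Surjective a
  hbs : RepWith @Surjective b
  has' : RepWith @Surjective a'
  hbs' : RepWith @Surjective b'
  w : a ≫ f = (yon S).map h ≫ b
  wt : b' ≫ g = (yon S).map t ≫ b
  ws : a' ≫ g' = (yon S).map s ≫ a
  w' : a' ≫ f' = (yon S).map h' ≫ b'
  sq : IsPullback s h' h t

theorem exists_bcDiag {f : X ⟶ Y} {g : Y' ⟶ Y} {g' : X' ⟶ X} {f' : X' ⟶ Y'} (sq : IsPullback g' f' f g)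
    (hX : IsAlgSpace X) (hY : IsAlgSpace Y) (hY' : IsAlgSpace Y') : Nonempty (BCDiag f g g' f') := by
  obtain ⟨V, b, hb, hbs⟩ := hY.atlas
  obtain ⟨V', b', t, hb', hbs', wt⟩ := exists_diagram_at (f := g) hY' hb hbs
  have sqV := IsPullback.of_hasPullback f b
  obtain ⟨U, c, h, hc, hcs, hch⟩ := exists_chart_pullback hX hb.1 sqV
  have sqU := IsPullback.of_hasPullback h t
  -- the base change of `X` to `V'`
  have sqV' := IsPullback.of_hasPullback f' b'
  have sq' : IsPullback (pullback.fst f' b' ≫ g') (pullback.snd f' b') f ((yon S).map t ≫ b) := by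
    rw [← wt]
    exact sqV'.flip.paste_vert sq.flip |>.flip
  obtain ⟨cT, m, h1, h2, sqc, hm1, hm2, hm⟩ := exists_chart_baseChange sqV hch t sq' sqU
  have hα' : RepWith @Etale (pullback.fst f' b') := repWith_of_isPullback sqV'.flip hb'
  have hαs' : RepWith @Surjective (pullback.fst f' b') := repWith_of_isPullback sqV'.flip hbs'
  have hα : RepWith @Etale (pullback.fst f b) := repWith_of_isPullback sqV.flip hb
  have hαs : RepWith @Surjective (pullback.fst f b) := repWith_of_isPullback sqV.flip hbs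
  refine ⟨⟨U, V, pullback h t, V', c ≫ pullback.fst f b, b, cT ≫ pullback.fst f' b', b', h, t,
    pullback.fst h t, pullback.snd h t, repWith_comp hc hα, hb, repWith_comp (repWith_of_isPullback sqc hc) hα',
    hb', repWith_comp hcs hαs, hbs, repWith_comp (repWith_of_isPullback sqc hcs) hαs', hbs', ?_, wt, ?_, ?_, sqU⟩⟩
  · rw [Category.assoc, sqV.w, ← Category.assoc, hch]
  · rw [Category.assoc]
    exact h1
  · rw [Category.assoc, sqV'.w, ← Category.assoc, h2]

end K639.Diag2
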