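import Groth.Agent.Dual.H329.GorBase
import Groth.Agent.Dual.H331.GorComp
import Groth.Agent.Flat2D.FlatAtPt
import Groth.Agent.Etbase.EtaleStalk
import Groth.Agent.Etbase.NoethDescent

/-!
# The Gorenstein property of a morphism at a point is étale local on source and target
-/

set_option autoImplicit false

universe u

open CategoryTheory CategoryTheory.Limits AlgebraicGeometry IsLocalRing TensorProduct
open Groth.Agent.Flat2D.PbStalk Groth.Agent.Flat2D.FlatAtPt Groth.Agent

namespace K639.GorEt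

variable {U' U V V' : Scheme.{u}}

/-- the maximal ideal of the local ring of an étale scheme is generated by that of the base -/
theorem max_eq (π : U' ⟶ U) [Etale π] (u' : U') :
    (maximalIdeal (U.presheaf.stalk (π u'))).map (π.stalkMap u').hom = maximalIdeal (U'.presheaf.stalk u') := by
  obtain ⟨h1, h2, h3, h4⟩ := Etbase.EtaleStalk.stalkMap_facts π u'
  algebraize [(π.stalkMap u').hom]
  exact Algebra.FormallyUnramified.map_maximalIdeal (R := U.presheaf.stalk (π u'))

/-- Flatness at a point is étale local on the source. -/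
theorem flat_source_iff (π : U' ⟶ U) [Etale π] (h : U ⟶ V) (u' : U') :
    ((π ≫ h).stalkMap u').hom.Flat ↔ (h.stalkMap (π u')).hom.Flat :=
  ⟨fun H => flat_stalkMap_of_comp π h u' H (Flat.stalkMap π u'),
    fun H => flat_stalkMap_comp π h u' (Flat.stalkMap π u') H⟩

/-- Flatness at a point is étale local on the target. -/
theorem flat_target_iff (h : U ⟶ V) (e : V ⟶ V') [Etale e] (u : U) :
    ((h ≫ e).stalkMap u).hom.Flat ↔ (h.stalkMap u).hom.Flat := by
  refine ⟨fun H => ?_, fun H => flat_stalkMap_comp h e u H (Flat.stalkMap e _)⟩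
  let γ : U ⟶ pullback (h ≫ e) e := pullback.lift (𝟙 U) h (by simp)
  have hγ1 : γ ≫ pullback.fst _ _ = 𝟙 U := pullback.lift_fst _ _ _
  have hγ2 : γ ≫ pullback.snd _ _ = h := pullback.lift_snd _ _ _
  have hγ : Etale γ := by
    refine MorphismProperty.of_postcomp @Etale (W' := @Etale) γ (pullback.fst _ _) inferInstance ?_
    rw [hγ1]
    infer_instance
  have h1 : ((pullback.snd (h ≫ e) e).stalkMap (γ u)).hom.Flat := by
    refine flat_stalkMap_of_isPullback (IsPullback.of_hasPullback (h ≫ e) e) (γ u) ?_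
    have h2 : (pullback.fst (h ≫ e) e) (γ u) = u := by
      rw [← Scheme.Hom.comp_apply, hγ1]
      rfl
    exact flat_stalkMap_congr (h ≫ e) h2.symm H
  have h3 := flat_stalkMap_comp γ (pullback.snd (h ≫ e) e) u (Flat.stalkMap γ u) h1
  rwa [hγ2] at h3

/-- `m_V' O_U = m_V O_U` for `V ⟶ V'` étale. -/
theorem fiberIdeal_target (h : U ⟶ V) (e : V ⟶ V') [Etale e] (u : U) :
    fiberIdeal (h ≫ e) u = fiberIdeal h u := by
  change Ideal.map ((h ≫ e).stalkMap u).hom (maximalIdeal (V'.presheaf.stalk (e (h u)))) =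
    Ideal.map (h.stalkMap u).hom (maximalIdeal (V.presheaf.stalk (h u)))
  rw [← max_eq e (h u), Ideal.map_map, Scheme.Hom.stalkMap_comp]
  rfl

/-- `m_V O_U' = (m_V O_U) O_U'`. -/
theorem fiberIdeal_source (π : U' ⟶ U) (h : U ⟶ V) (u' : U') :
    fiberIdeal (π ≫ h) u' = (fiberIdeal h (π u')).map (π.stalkMap u').hom := by
  change Ideal.map ((π ≫ h).stalkMap u').hom (maximalIdeal (V.presheaf.stalk (h (π u')))) =
    Ideal.map (π.stalkMap u').hom (Ideal.map (h.stalkMap (π u')).hom (maximalIdeal (V.presheaf.stalk (h (π u')))))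
  rw [Ideal.map_map, Scheme.Hom.stalkMap_comp]
  rfl

section Ring

variable (A₀ A B : Type u) [CommRing A₀] [CommRing A] [CommRing B]
  [IsLocalRing A₀] [IsLocalRing A] [IsLocalRing B] [Algebra A₀ A] [Algebra A B] [Algebra A₀ B]
  [IsScalarTower A₀ A B] [IsLocalHom (algebraMap A₀ A)] [IsLocalHom (algebraMap A B)]
  [Module.Flat A B] [Algebra.EssFiniteType A B]

include A in
theorem gor_ring_iff (h : (maximalIdeal A).map (algebraMap A B) = maximalIdeal B) :
    LocCoh.IsGorensteinLocalRing (B ⧸ (maximalIdeal A₀).map (algebraMap A₀ B)) ↔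
      LocCoh.IsGorensteinLocalRing (A ⧸ (maximalIdeal A₀).map (algebraMap A₀ A)) := by
  set I : Ideal A := (maximalIdeal A₀).map (algebraMap A₀ A) with hI
  have hIB : (maximalIdeal A₀).map (algebraMap A₀ B) = I.map (algebraMap A B) := by
    rw [hI, Ideal.map_map, ← IsScalarTower.algebraMap_eq]
  have hff : Module.FaithfullyFlat A B := Module.FaithfullyFlat.of_flat_of_isLocalHom
  have hgor : LocCoh.IsGorensteinLocalRing (B ⧸ (maximalIdeal A).map (algebraMap A B)) := by
    rw [h]
    let : Field (B ⧸ maximalIdeal B) := Ideal.Quotient.field _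
    exact LoccohA.GorBC.isGorensteinLocalRing_of_field _
  constructor
  · intro H
    have hC : IsNoetherianRing (B ⧸ (maximalIdeal A₀).map (algebraMap A₀ B)) := H.toIsNoetherian
    have hB : IsNoetherianRing (A ⧸ I) := by
      rw [hIB] at hC
      have h1 : IsNoetherianRing (B ⊗[A] (A ⧸ I)) :=
        isNoetherianRing_of_ringEquiv _ (Algebra.TensorProduct.quotIdealMapEquivTensorQuot B I).toRingEquiv
      have h2 : IsNoetherianRing ((A ⧸ I) ⊗[A] B) :=
        isNoetherianRing_of_ringEquiv _ (Algebra.TensorProduct.comm A B (A ⧸ I)).toRingEquiv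
      exact Etbase.NoethDescent.isNoetherianRing_of_faithfullyFlat (A ⧸ I) ((A ⧸ I) ⊗[A] B)
    exact ((Dual.H331.GorComp.gorenstein_tower_iff A₀ A B hB hC).1 H).1
  · intro H
    have hB : IsNoetherianRing (A ⧸ I) := H.toIsNoetherian
    have hC : IsNoetherianRing (B ⧸ (maximalIdeal A₀).map (algebraMap A₀ B)) := by
      rw [hIB]
      have : Algebra.EssFiniteType A (B ⧸ I.map (algebraMap A B)) := inferInstance
      have : Algebra.EssFiniteType (A ⧸ I) (B ⧸ I.map (algebraMap A B)) :=
        Algebra.EssFiniteType.of_comp A (A ⧸ I) (B ⧸ I.map (algebraMap A B))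
      exact Algebra.EssFiniteType.isNoetherianRing (A ⧸ I) (B ⧸ I.map (algebraMap A B))
    exact (Dual.H331.GorComp.gorenstein_tower_iff A₀ A B hB hC).2 ⟨H, hgor⟩

end Ring

open Dual.H329.GorBase

theorem gorFib_source_iff (π : U' ⟶ U) [Etale π] (h : U ⟶ V) (u' : U') :
    GorFib (π ≫ h) u' ↔ GorFib h (π u') := by
  obtain ⟨h1, h2, h3, h4⟩ := Etbase.EtaleStalk.stalkMap_facts π u'
  let A₀ := V.presheaf.stalk (h (π u'))
  let A := U.presheaf.stalk (π u')
  let B := U'.presheaf.stalk u'
  let : Algebra A₀ A := (h.stalkMap (π u')).hom.toAlgebra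
  let : Algebra A B := (π.stalkMap u').hom.toAlgebra
  let : Algebra A₀ B := ((π ≫ h).stalkMap u').hom.toAlgebra
  have hcomp : (π ≫ h).stalkMap u' = h.stalkMap (π u') ≫ π.stalkMap u' := Scheme.Hom.stalkMap_comp π h u'
  have : IsScalarTower A₀ A B := IsScalarTower.of_algebraMap_eq' (congrArg CommRingCat.Hom.hom hcomp)
  have : IsLocalHom (algebraMap A₀ A) := inferInstanceAs (IsLocalHom (h.stalkMap (π u')).hom)
  have : IsLocalHom (algebraMap A B) := inferInstanceAs (IsLocalHom (π.stalkMap u').hom)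
  have : Module.Flat A B := Flat.stalkMap π u'
  have : Algebra.EssFiniteType A B := by
    have := LocallyOfFiniteType.stalkMap π u'
    rwa [← RingHom.essFiniteType_algebraMap]
  exact gor_ring_iff A₀ A B (max_eq π u')

theorem gorFib_target_iff (h : U ⟶ V) (e : V ⟶ V') [Etale e] (u : U) :
    GorFib (h ≫ e) u ↔ GorFib h u := by
  unfold GorFib
  rw [fiberIdeal_target]

theorem source_iff (π : U' ⟶ U) [Etale π] (h : U ⟶ V) (u' : U') :
    Dual3.IsGorensteinAt (π ≫ h) u' ↔ Dual3.IsGorensteinAt h (π u') := by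
  rw [isGorensteinAt_iff, isGorensteinAt_iff, flat_source_iff, gorFib_source_iff]

theorem target_iff (h : U ⟶ V) (e : V ⟶ V') [Etale e] (u : U) :
    Dual3.IsGorensteinAt (h ≫ e) u ↔ Dual3.IsGorensteinAt h u := by
  rw [isGorensteinAt_iff, isGorensteinAt_iff, flat_target_iff, gorFib_target_iff]

end K639.GorEt
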