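import Groth.Agent.AlgSp.K639.Fib
import Groth.Agent.S0116

/-!
# Locally Noetherian charts and fibres
-/

set_option autoImplicit false

universe u

open CategoryTheory CategoryTheory.Limits AlgebraicGeometry Opposite AlgSp
open K639.Diag K639.Fib

namespace K639.NoethFib

variable {S : Scheme.{u}} {F G : Sp S}

/-- Every étale chart of a locally Noetherian sheaf is locally Noetherian. -/
theorem isLocallyNoetherian_chart (h : IsLocNoethSp F) {U : Over S} {a : (yon S).obj U ⟶ F}
    (ha : RepWith @Etale a) : IsLocallyNoetherian U.left := by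
  obtain ⟨U₀, p₀, h₁, h₂, h₃⟩ := h
  obtain ⟨R, p, q, sq, hq⟩ := exists_pullback h₁ a
  have hq' : Surjective q.left := h₂.2 _ _ _ sq
  have hp : Etale p.left := ha.2 p₀ _ _ sq.flip
  have : IsLocallyNoetherian R.left := LocallyOfFiniteType.isLocallyNoetherian p.left
  exact Groth.Agent.S0116.result q.left

theorem isLocallyNoetherian_fiber {f : F ⟶ G}
    (hf : ∀ (k : FieldPt G) (Xk : Sp S) (a : Xk ⟶ F) (b : Xk ⟶ (yon S).obj k.pt),
      IsPullback a b f k.toHom → IsLocNoethSp Xk)
    {U V : Over S} {a : (yon S).obj U ⟶ F} {b : (yon S).obj V ⟶ G} {h : U ⟶ V}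
    (ha : RepWith @Etale a) (hb : RepWith @Etale b) (w : a ≫ f = (yon S).map h ≫ b) (v : ↥V.left) :
    IsLocallyNoetherian (h.left.fiber v) := by
  have sq' := IsPullback.of_hasPullback f ((yon S).map (resMap V v) ≫ b)
  have h1 := hf (FieldPt.ofPt b v) _ _ _ (by rw [FieldPt.toHom_ofPt]; exact sq')
  obtain ⟨c, hc, -, hc2⟩ := exists_etale_to_baseChange ha hb w (IsPullback.of_hasPullback f b)
  obtain ⟨cT, m, -, -, sqc, -, -, -⟩ := exists_chart_baseChange (IsPullback.of_hasPullback f b) hc2 (resMap V v)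
    sq' (isPullback_fib h v)
  exact isLocallyNoetherian_chart h1 (repWith_of_isPullback sqc hc)

end K639.NoethFib
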