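import Groth.Agent.AlgSp.K639.Diag2
import Groth.Agent.AlgSp.K639.NoethFib
import Groth.Agent.AlgSp.K639.GorEt

/-!
# Gorenstein morphisms and spaces: independence of charts
-/

set_option autoImplicit false

universe u

open CategoryTheory CategoryTheory.Limits AlgebraicGeometry Opposite AlgSp
open K639.Diag K639.Fib K639.Diag2 K639.NoethFib Groth.Agent

namespace K639.GorSp

/-- `Dual3.IsGorensteinAt` is étale local on source and target. -/
theorem gorInv : EtInv.{u} (fun h u => Dual3.IsGorensteinAt h u) where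
  source π h u' hπ := GorEt.source_iff π h u'
  target h e u he := GorEt.target_iff h e u

theorem flatInv : EtInv.{u} (fun h u => (Scheme.Hom.stalkMap h u).hom.Flat) where
  source π h u' hπ := GorEt.flat_source_iff π h u'
  target h e u he := GorEt.flat_target_iff h e u

theorem gor_stalk_iff {U' U : Scheme.{u}} (π : U' ⟶ U) [Etale π] [IsLocallyNoetherian U] (u' : U') :
    LocCoh.IsGorensteinLocalRing (U'.presheaf.stalk u') ↔ LocCoh.IsGorensteinLocalRing (U.presheaf.stalk (π u')) := by
  have : IsLocallyNoetherian U' := LocallyOfFiniteType.isLocallyNoetherian π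
  rw [Dual.H329.GorBase.gor_iff_of_flat π u' (Flat.stalkMap π u')]
  refine and_iff_left ?_
  have h1 : Flat2D.PbStalk.fiberIdeal π u' = IsLocalRing.maximalIdeal (U'.presheaf.stalk u') := GorEt.max_eq π u'
  unfold Dual.H329.GorBase.GorFib
  rw [h1]
  let : Field (U'.presheaf.stalk u' ⧸ IsLocalRing.maximalIdeal (U'.presheaf.stalk u')) := Ideal.Quotient.field _
  exact LoccohA.GorBC.isGorensteinLocalRing_of_field _

theorem isGorenstein_of_etale {U' U : Scheme.{u}} (π : U' ⟶ U) [Etale π] (hU : Dual3.IsGorenstein U) :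
    Dual3.IsGorenstein U' := by
  have := hU.1
  exact ⟨LocallyOfFiniteType.isLocallyNoetherian π, fun x => (gor_stalk_iff π x).2 (hU.2 _)⟩

theorem isGorenstein_of_etale_surjective {U' U : Scheme.{u}} (π : U' ⟶ U) [Etale π] [Surjective π]
    (hU : Dual3.IsGorenstein U') : Dual3.IsGorenstein U := by
  have := hU.1
  have : IsLocallyNoetherian U := S0116.result π
  refine ⟨this, fun x => ?_⟩
  obtain ⟨x', rfl⟩ := π.surjective x
  exact (gor_stalk_iff π x').1 (hU.2 _)

variable {S : Scheme.{u}} {F : Sp S}

theorem isGorenstein_chart (h : EtaleLocally Dual3.IsGorenstein F) {U : Over S} {a : (yon S).obj U ⟶ F}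
    (ha : RepWith @Etale a) : Dual3.IsGorenstein U.left := by
  obtain ⟨U₀, p₀, h₁, h₂, h₃⟩ := h
  obtain ⟨R, p, q, sq, hq⟩ := exists_pullback h₁ a
  have hq' : Surjective q.left := h₂.2 _ _ _ sq
  have hp : Etale p.left := ha.2 p₀ _ _ sq.flip
  exact isGorenstein_of_etale_surjective q.left (isGorenstein_of_etale p.left h₃)

end K639.GorSp
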