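import Mathlib.Topology.Connected.Clopen
import Mathlib.Topology.Connected.TotallyDisconnected
import Mathlib.SetTheory.Cardinal.Finite

/-!
# Counting connected components with a finite cover by connected sets
-/

set_option autoImplicit false

open Topology Set

namespace K639.CompTop

variable {T : Type*} [TopologicalSpace T] {ι : Type*}

theorem enat_card_le_of_surjective {α β : Type*} {f : α → β} (hf : Function.Surjective f) :
    ENat.card β ≤ ENat.card α :=
  ENat.card_le_card_of_injective (Function.injective_surjInv hf)

/-- Upper bound for the number of components. -/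
theorem card_le (B : ι → Set T) (hB : ∀ i, IsPreconnected (B i)) (hne : ∀ i, (B i).Nonempty)
    (hcov : ∀ t, ∃ i, t ∈ B i) (r : ι → ι → Prop) (hr : ∀ i j, r i j → (B i ∩ B j).Nonempty) :
    ENat.card (ConnectedComponents T) ≤ ENat.card (Quot r) := by
  have key : ∀ i j, r i j → (ConnectedComponents.mk (hne i).choose : ConnectedComponents T) =
      ConnectedComponents.mk (hne j).choose := by
    intro i j hij
    obtain ⟨t, hti, htj⟩ := hr i j hij
    have h1 : (ConnectedComponents.mk (hne i).choose : ConnectedComponents T) = ConnectedComponents.mk t :=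
      ConnectedComponents.coe_eq_coe'.2 ((hB i).subset_connectedComponent hti (hne i).choose_spec)
    have h2 : (ConnectedComponents.mk (hne j).choose : ConnectedComponents T) = ConnectedComponents.mk t :=
      ConnectedComponents.coe_eq_coe'.2 ((hB j).subset_connectedComponent htj (hne j).choose_spec)
    rw [h1, h2]
  let φ : Quot r → ConnectedComponents T := Quot.lift (fun i => ConnectedComponents.mk (hne i).choose) key
  have hφ : Function.Surjective φ := by
    intro c
    obtain ⟨t, rfl⟩ := ConnectedComponents.surjective_coe c
    obtain ⟨i, hi⟩ := hcov t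
    exact ⟨Quot.mk r i, ConnectedComponents.coe_eq_coe'.2 ((hB i).subset_connectedComponent hi (hne i).choose_spec)⟩
  exact enat_card_le_of_surjective hφ

/-- Lower bound for the number of components. -/
theorem le_card [Finite ι] (B : ι → Set T) (hB : (∀ i, IsOpen (B i)) ∨ (∀ i, IsClosed (B i)))
    (hcov : ∀ t, ∃ i, t ∈ B i) (r : ι → ι → Prop) (hne : ∀ q : Quot r, ∃ i, Quot.mk r i = q ∧ (B i).Nonempty)
    (hr : ∀ i j, (B i ∩ B j).Nonempty → r i j) :
    ENat.card (Quot r) ≤ ENat.card (ConnectedComponents T) := by
  choose c hc using hcov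
  let φ : T → Quot r := fun t => Quot.mk r (c t)
  have hφ : ∀ t i, t ∈ B i → φ t = Quot.mk r i := fun t i hi => Quot.sound (hr _ _ ⟨t, hc t, hi⟩)
  have hpre : ∀ s : Set (Quot r), φ ⁻¹' s = ⋃ i ∈ {i | Quot.mk r i ∈ s}, B i := by
    intro s
    ext t
    simp only [mem_preimage, mem_iUnion, exists_prop]
    constructor
    · intro ht
      exact ⟨c t, ht, hc t⟩
    · rintro ⟨i, hi, hti⟩
      rw [hφ t i hti]
      exact hi
  let _ : TopologicalSpace (Quot r) := ⊥
  have hdisc : DiscreteTopology (Quot r) := ⟨rfl⟩
  have hcont : Continuous φ := by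
    rcases hB with hB | hB
    · refine ⟨fun s _ => ?_⟩
      rw [hpre]
      exact isOpen_biUnion fun i _ => hB i
    · rw [continuous_iff_isClosed]
      intro s _
      rw [hpre]
      exact (Set.toFinite _).isClosed_biUnion fun i _ => hB i
  have hsurj : Function.Surjective φ := by
    intro q
    obtain ⟨i, rfl, t, ht⟩ := hne q
    exact ⟨t, hφ t i ht⟩
  have hsurj' : Function.Surjective hcont.connectedComponentsLift := by
    intro q
    obtain ⟨t, rfl⟩ := hsurj q
    exact ⟨ConnectedComponents.mk t, rfl⟩
  exact enat_card_le_of_surjective hsurj'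

end K639.CompTop
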