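import Groth.Agent.AlgSp.K639.ConnSep
import Groth.Agent.AlgSp.K625.Fld
import Mathlib.FieldTheory.SeparableClosure

/-!
# Geometric connectedness is tested on finite separable extensions
-/

set_option autoImplicit false

universe u

open CategoryTheory CategoryTheory.Limits AlgebraicGeometry Opposite AlgSp
open K639.Diag K639.Fib K639.Diag2 K639.Red K639.ConnSep Groth.Agent

namespace K639.ConnGeom

variable {S : Scheme.{u}} {X Y : Sp S} {k : Type u} [Field k] (s : Spec (CommRingCat.of k) ⟶ S)

/-- The projection between base changes to algebras. -/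
theorem exists_proj {A B : Type u} [CommRing A] [Algebra k A] [CommRing B] [Algebra k B] (φ : A →ₐ[k] B)
    {f : X ⟶ Y} {g : (yon S).obj (Over.mk s) ⟶ Y} {P Q : Sp S} {a : P ⟶ X} {b : P ⟶ (yon S).obj (alg s A)}
    (sq : IsPullback a b f ((yon S).map (toT s A) ≫ g)) {a' : Q ⟶ X} {b' : Q ⟶ (yon S).obj (alg s B)}
    (sq' : IsPullback a' b' f ((yon S).map (toT s B) ≫ g)) :
    ∃ m : Q ⟶ P, m ≫ a = a' ∧ IsPullback m b' b ((yon S).map (algMap s φ)) := by
  have w : a' ≫ f = (b' ≫ (yon S).map (algMap s φ)) ≫ (yon S).map (toT s A) ≫ g := by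
    rw [sq'.w, Category.assoc, ← Category.assoc ((yon S).map (algMap s φ)), ← Functor.map_comp, algMap_toT]
  refine ⟨sq.lift a' (b' ≫ (yon S).map (algMap s φ)) w, sq.lift_fst _ _ _, ?_⟩
  refine IsPullback.of_right (h₁₂ := a) (v₁₃ := f) (h₂₂ := (yon S).map (toT s A) ≫ g) ?_ (sq.lift_snd _ _ _) sq
  rw [sq.lift_fst, ← Category.assoc, ← Functor.map_comp, algMap_toT]
  exact sq'

/-- Geometric connectedness is tested on finite separable extensions. -/
theorem connectedSpace_of_separable {K : Type u} [Field K] [Algebra k K] [IsSepClosed K] {f : X ⟶ Y}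
    (hX : IsAlgSpace X) (hY : IsAlgSpace Y) (g : (yon S).obj (Over.mk s) ⟶ Y)
    (H : ∀ (k' : Type u) [Field k'] [Algebra k k'] [FiniteDimensional k k'] [Algebra.IsSeparable k k']
      (_ : k' →ₐ[k] K) (P : Sp S) (a : P ⟶ X)
      (b : P ⟶ (yon S).obj (alg s k')), IsPullback a b f ((yon S).map (toT s k') ≫ g) → ConnectedSpace (Points P))
    {P : Sp S} {a : P ⟶ X} {b : P ⟶ (yon S).obj (alg s K)} (sq : IsPullback a b f ((yon S).map (toT s K) ≫ g)) :
    ConnectedSpace (Points P) := by
  let L := separableClosure k K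
  have hL : IsSepClosed L := (separableClosure.isSepClosure k K).1
  obtain ⟨Q, a', b', sq'⟩ : ∃ (Q : Sp S) (a' : Q ⟶ X) (b' : Q ⟶ _), IsPullback a' b' f
      ((yon S).map (toT s L) ≫ g) := ⟨_, _, _, IsPullback.of_hasPullback _ _⟩
  have h1 : ConnectedSpace (Points Q) := by
    refine connectedSpace_of_finite s hX hY g ?_ sq'
    intro k' hk' P₁ a₁ b₁ sq₁
    have : Algebra.IsSeparable k k' := Algebra.isSeparable_tower_bot_of_isSeparable k k' L
    exact H k' (L.val.comp k'.val) P₁ a₁ b₁ sq₁
  obtain ⟨m, -, hm⟩ := exists_proj s L.val sq' sq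
  have h2 : RepWith @UniversallyOpen m := repWith_of_isPullback hm.flip
    ((repWith_yon_map_iff @UniversallyOpen _).2 (K625.Fld.universallyOpen_specMap _))
  have h3 : RepWith @GeometricallyConnected m := repWith_of_isPullback hm.flip
    ((repWith_yon_map_iff @GeometricallyConnected _).2 (K625.Fld.geometricallyConnected_specMap _))
  exact K625.Prod.connectedSpace_source h2 h3

end K639.ConnGeom
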