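import Groth.Agent.AlgSp.K639.Red
import Groth.Agent.AlgSp.K625.Tensor
import Groth.Agent.AlgSp.K638.GeomConn

/-!
# Connectedness of base changes to algebraic extensions is tested on finite subextensions
-/

set_option autoImplicit false

universe u

open CategoryTheory CategoryTheory.Limits AlgebraicGeometry Opposite AlgSp
open K639.Diag K639.Fib K639.Diag2 K639.Red Groth.Agent
open scoped TensorProduct

namespace K639.ConnSep

variable {S : Scheme.{u}} {X Y : Sp S} {k : Type u} [Field k] (s : Spec (CommRingCat.of k) ⟶ S)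

section alg

variable (A B C : Type u) [CommRing A] [Algebra k A] [CommRing B] [Algebra k B] [CommRing C] [Algebra k C]

/-- The spectrum of a `k`-algebra as an object over `S`. -/
noncomputable abbrev alg : Over S := Over.mk (Spec.map (CommRingCat.ofHom (algebraMap k A)) ≫ s)

noncomputable abbrev toT : alg s A ⟶ Over.mk s := Over.homMk (Spec.map (CommRingCat.ofHom (algebraMap k A))) rfl

variable {A B C}

noncomputable def algMap (φ : A →ₐ[k] B) : alg s B ⟶ alg s A :=
  Over.homMk (Spec.map (CommRingCat.ofHom φ.toRingHom)) (by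
    change Spec.map (CommRingCat.ofHom φ.toRingHom) ≫ Spec.map (CommRingCat.ofHom (algebraMap k A)) ≫ s =
      Spec.map (CommRingCat.ofHom (algebraMap k B)) ≫ s
    rw [← Category.assoc, ← Spec.map_comp, ← CommRingCat.ofHom_comp]
    congr 3
    exact φ.comp_algebraMap)

theorem algMap_left (φ : A →ₐ[k] B) : (algMap s φ).left = Spec.map (CommRingCat.ofHom φ.toRingHom) := rfl

theorem algMap_toT (φ : A →ₐ[k] B) : algMap s φ ≫ toT s A = toT s B := by
  apply Over.OverMorphism.ext
  change Spec.map (CommRingCat.ofHom φ.toRingHom) ≫ Spec.map (CommRingCat.ofHom (algebraMap k A)) =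
      Spec.map (CommRingCat.ofHom (algebraMap k B))
  rw [← Spec.map_comp, ← CommRingCat.ofHom_comp]
  congr 2
  exact φ.comp_algebraMap

theorem algMap_comp (φ : A →ₐ[k] B) (ψ : B →ₐ[k] C) : algMap s ψ ≫ algMap s φ = algMap s (ψ.comp φ) := by
  apply Over.OverMorphism.ext
  change Spec.map (CommRingCat.ofHom ψ.toRingHom) ≫ Spec.map (CommRingCat.ofHom φ.toRingHom) =
      Spec.map (CommRingCat.ofHom (ψ.comp φ).toRingHom)
  rw [← Spec.map_comp, ← CommRingCat.ofHom_comp]
  rfl

variable (A B)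

theorem isPullback_tensor : IsPullback
    (algMap s (Algebra.TensorProduct.includeLeft : A →ₐ[k] A ⊗[k] B))
    (algMap s (Algebra.TensorProduct.includeRight : B →ₐ[k] A ⊗[k] B)) (toT s A) (toT s B) :=
  K625.Tensor.isPullback_over (isPullback_SpecMap_of_isPushout _ _ _ _ (CommRingCat.isPushout_tensorProduct k A B))

variable {B}

theorem isPullback_tensor_map (φ : B →ₐ[k] C) : IsPullback
    (algMap s (Algebra.TensorProduct.map (AlgHom.id k A) φ))
    (algMap s (Algebra.TensorProduct.includeRight : C →ₐ[k] A ⊗[k] C))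
    (algMap s (Algebra.TensorProduct.includeRight : B →ₐ[k] A ⊗[k] B)) (algMap s φ) := by
  have h1 : (Algebra.TensorProduct.map (AlgHom.id k A) φ).comp Algebra.TensorProduct.includeLeft =
      (Algebra.TensorProduct.includeLeft : A →ₐ[k] A ⊗[k] C) := by ext; simp
  have h2 : (Algebra.TensorProduct.map (AlgHom.id k A) φ).comp Algebra.TensorProduct.includeRight =
      (Algebra.TensorProduct.includeRight : C →ₐ[k] A ⊗[k] C).comp φ := by ext; simp
  refine IsPullback.of_right (h₁₂ := algMap s (Algebra.TensorProduct.includeLeft : A →ₐ[k] A ⊗[k] B))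
    (v₁₃ := toT s A) (h₂₂ := toT s B) ?_ ?_ (isPullback_tensor s A B)
  · rw [algMap_comp, h1, algMap_toT]
    exact isPullback_tensor s A C
  · rw [algMap_comp, algMap_comp, h2]

end alg

/-- An affine étale chart of the base change to a field. -/
theorem exists_affine_chart {f : X ⟶ Y} (hX : IsAlgSpace X) (hY : IsAlgSpace Y) (g : (yon S).obj (Over.mk s) ⟶ Y)
    {Xk : Sp S} {α : Xk ⟶ X} {β : Xk ⟶ (yon S).obj (Over.mk s)} (sq : IsPullback α β f g) (x : Points Xk) :
    ∃ (A : Type u) (_ : CommRing A) (_ : Algebra k A) (c : (yon S).obj (alg s A) ⟶ Xk) (t : ↥(alg s A).left),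
      RepWith @Etale c ∧ c ≫ β = (yon S).map (toT s A) ∧ Points.ofPt c t = x := by
  obtain ⟨U, c, h, hc, hcs, hch⟩ := exists_chart_pullback hX (hY.representable_from_yon g) sq
  obtain ⟨u, rfl⟩ := K609.Points.surjective_ofPt_of_repWith_surjective hcs x
  obtain ⟨V, hV, hu, -⟩ := exists_isAffineOpen_mem_and_subset (x := u) (U := ⊤) trivial
  let j : Spec Γ(U.left, V) ⟶ U.left := hV.fromSpec
  obtain ⟨φ, hφ⟩ := Spec.map_surjective (j ≫ h.left)
  let _ : Algebra k Γ(U.left, V) := φ.hom.toAlgebra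
  have w : j ≫ U.hom = Spec.map (CommRingCat.ofHom (algebraMap k Γ(U.left, V))) ≫ s := by
    rw [← Over.w h]
    change j ≫ h.left ≫ s = _
    rw [← Category.assoc, ← hφ]
    rfl
  let i : alg s Γ(U.left, V) ⟶ U := Over.homMk j w
  have hi : RepWith @Etale ((yon S).map i) := (repWith_yon_map_iff @Etale i).2 (inferInstanceAs (Etale j))
  refine ⟨Γ(U.left, V), inferInstance, inferInstance, (yon S).map i ≫ c, hV.primeIdealOf ⟨u, hu⟩, repWith_comp hi hc, ?_, ?_⟩
  · rw [Category.assoc, hch, ← Functor.map_comp]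
    congr 1
    apply Over.OverMorphism.ext
    exact hφ.symm
  · refine (K609.Points.ofPt_yon_map_comp i c _).trans ?_
    exact congrArg (Points.ofPt c) (hV.fromSpec_primeIdealOf ⟨u, hu⟩)

variable {L : Type u} [Field L] [Algebra k L]

/-- Connectedness of the base change to an algebraic extension can be tested on the finite subextensions. -/
theorem connectedSpace_of_finite [Algebra.IsAlgebraic k L] {f : X ⟶ Y} (hX : IsAlgSpace X) (hY : IsAlgSpace Y)
    (g : (yon S).obj (Over.mk s) ⟶ Y)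
    (H : ∀ k' : IntermediateField k L, FiniteDimensional k k' → ∀ (P : Sp S) (a : P ⟶ X)
      (b : P ⟶ (yon S).obj (alg s k')), IsPullback a b f ((yon S).map (toT s k') ≫ g) → ConnectedSpace (Points P))
    {P : Sp S} {a : P ⟶ X} {b : P ⟶ (yon S).obj (alg s L)} (sqL : IsPullback a b f ((yon S).map (toT s L) ≫ g)) :
    ConnectedSpace (Points P) := by
  obtain ⟨Xk, α, β, sq⟩ : ∃ (Xk : Sp S) (α : Xk ⟶ X) (β : Xk ⟶ _), IsPullback α β f g :=
    ⟨_, _, _, IsPullback.of_hasPullback _ _⟩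
  -- the projections of the base changes
  have hproj : ∀ (B : Type u) [CommRing B] [Algebra k B] {Q : Sp S} {a' : Q ⟶ X} {b' : Q ⟶ (yon S).obj (alg s B)}
      (_ : IsPullback a' b' f ((yon S).map (toT s B) ≫ g)), ∃ m : Q ⟶ Xk, IsPullback m b' β ((yon S).map (toT s B)) ∧
        m ≫ α = a' := by
    intro B _ _ Q a' b' sq'
    have w : a' ≫ f = (b' ≫ (yon S).map (toT s B)) ≫ g := by rw [sq'.w, Category.assoc]
    refine ⟨sq.lift a' (b' ≫ (yon S).map (toT s B)) w, ?_, sq.lift_fst _ _ _⟩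
    refine IsPullback.of_right (h₁₂ := α) (v₁₃ := f) (h₂₂ := g) ?_ (sq.lift_snd _ _ _) sq
    rw [sq.lift_fst]
    exact sq'
  -- a point
  obtain ⟨P₀, a₀, b₀, sq₀⟩ : ∃ (P₀ : Sp S) (a₀ : P₀ ⟶ X) (b₀ : P₀ ⟶ _), IsPullback a₀ b₀ f
      ((yon S).map (toT s (⊥ : IntermediateField k L)) ≫ g) := ⟨_, _, _, IsPullback.of_hasPullback _ _⟩
  have hc₀ := H ⊥ inferInstance P₀ a₀ b₀ sq₀
  obtain ⟨m₀, -, -⟩ := hproj _ sq₀
  obtain ⟨p₀⟩ : Nonempty (Points P₀) := inferInstance
  obtain ⟨A, _, _, c, t, hc, hcβ, ht⟩ := exists_affine_chart s hX hY g sq (Points.map m₀ p₀)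
  -- the point of `P`
  have hsurjL : Function.Surjective (toT s L).left := fun z =>
    ⟨(IsLocalRing.closedPoint L : PrimeSpectrum L), Subsingleton.elim (α := PrimeSpectrum k) _ _⟩
  obtain ⟨mL, hmL, hmLα⟩ := hproj L sqL
  have hmLs : Function.Surjective (Points.map mL) :=
    K609.Points.surjective_map_of_isPullback hmL ((K609.Points.surjective_map_yon_map_iff _).2 hsurjL)
  obtain ⟨y₀, hy₀⟩ := hmLs (Points.ofPt c t)
  obtain ⟨cL, nL, hcLa, hcLb, hsqL, hnLα, hnLβ, -⟩ :=
    exists_chart_baseChange sq hcβ (toT s L) sqL (isPullback_tensor s A L)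
  refine { toPreconnectedSpace := preconnectedSpace_iff_clopen.2 fun V hV => ?_, toNonempty := ⟨y₀⟩ }
  obtain ⟨W, hWV⟩ : ∃ W : Set (PrimeSpectrum (A ⊗[k] L)), W = Points.ofPt cL ⁻¹' V := ⟨_, rfl⟩
  have hW : IsClopen W := by
    rw [hWV]
    exact hV.preimage (Points.continuous_ofPt cL)
  obtain ⟨e, -, hWe⟩ := PrimeSpectrum.isClopen_iff.1 hW
  obtain ⟨k', hk', e', rfl⟩ := K625.Tensor.exists_finite_level (k := k) A e
  -- the level `k'`
  obtain ⟨Q, a', b', sqQ⟩ : ∃ (Q : Sp S) (a' : Q ⟶ X) (b' : Q ⟶ _), IsPullback a' b' f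
      ((yon S).map (toT s k') ≫ g) := ⟨_, _, _, IsPullback.of_hasPullback _ _⟩
  have hQ := H k' hk' Q a' b' sqQ
  obtain ⟨cQ, nQ, hcQa, hcQb, hsqQ, hnQα, hnQβ, -⟩ :=
    exists_chart_baseChange sq hcβ (toT s k') sqQ (isPullback_tensor s A k')
  have sqL' : IsPullback a b f ((yon S).map (algMap s k'.val) ≫ ((yon S).map (toT s k') ≫ g)) := by
    rw [← Category.assoc, ← Functor.map_comp, algMap_toT]
    exact sqL
  obtain ⟨cL', m, hcL'a, hcL'b, hsqm, hma, hmb, hm⟩ :=
    exists_chart_baseChange sqQ hcQb (algMap s k'.val) sqL' (isPullback_tensor_map s A k'.val)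
  have h1 : (Algebra.TensorProduct.map (AlgHom.id k A) k'.val).comp Algebra.TensorProduct.includeLeft =
      (Algebra.TensorProduct.includeLeft : A →ₐ[k] A ⊗[k] L) := by ext; simp
  have hcc : cL' = cL := by
    apply sqL.hom_ext
    · rw [hcL'a, hcLa, hcQa, ← Category.assoc, ← Functor.map_comp, algMap_comp, h1]
    · rw [hcL'b, hcLb]
  subst hcc
  -- `P ⟶ Q` is open and closed
  have hint : (k'.val.toRingHom).IsIntegral := fun x =>
    IsIntegral.tower_top (R := k) (A := k') (Algebra.IsIntegral.isIntegral (R := k) x)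
  have hcl : IsClosedMap (Points.map m) := by
    refine K625.Prod.isClosedMap_of_repWith (repWith_of_isPullback hm.flip ((repWith_yon_map_iff @UniversallyClosed _).2 ?_))
    have : IsIntegralHom (algMap s k'.val).left := IsIntegralHom.SpecMap_iff.2 hint
    infer_instance
  have hop : IsOpenMap (Points.map m) := by
    refine K609.Points.isOpenMap_map (repWith_of_isPullback hm.flip ((repWith_yon_map_iff @UniversallyOpen _).2 ?_))
    exact K625.Fld.universallyOpen_specMap _
  -- a point of the chart over `k'`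
  obtain ⟨z, -, -⟩ := Scheme.exists_preimage_of_isPullback (K625.Tensor.isPullback_over_left (isPullback_tensor s A k')) t
    (IsLocalRing.closedPoint k' : PrimeSpectrum k') (Subsingleton.elim (α := PrimeSpectrum k) _ _)
  -- the values of the clopen set over this point
  have key : ∀ w₁ w₂ : ↥(alg s (A ⊗[k] L)).left,
      (algMap s (Algebra.TensorProduct.map (AlgHom.id k A) k'.val)).left w₁ = z →
      (algMap s (Algebra.TensorProduct.map (AlgHom.id k A) k'.val)).left w₂ = z →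
      Points.ofPt cL' w₁ ∈ V → Points.ofPt cL' w₂ ∈ V := by
    intro w₁ w₂ e₁ e₂ h₁
    have hW₁ : ∀ w : PrimeSpectrum (A ⊗[k] L), w ∈ W ↔ Points.ofPt cL' (w : ↥(alg s (A ⊗[k] L)).left) ∈ V := by
      intro w
      rw [hWV]
      rfl
    have h₂ : (w₁ : PrimeSpectrum (A ⊗[k] L)) ∈ W := (hW₁ w₁).2 h₁
    refine (hW₁ w₂).1 ?_
    rw [hWe] at h₂ ⊢
    change Algebra.TensorProduct.map (AlgHom.id k A) k'.val e' ∉ (w₁ : PrimeSpectrum (A ⊗[k] L)).asIdeal at h₂
    change Algebra.TensorProduct.map (AlgHom.id k A) k'.val e' ∉ (w₂ : PrimeSpectrum (A ⊗[k] L)).asIdeal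
    have e₃ : PrimeSpectrum.comap (Algebra.TensorProduct.map (AlgHom.id k A) k'.val).toRingHom
        (w₁ : PrimeSpectrum (A ⊗[k] L)) = PrimeSpectrum.comap
        (Algebra.TensorProduct.map (AlgHom.id k A) k'.val).toRingHom (w₂ : PrimeSpectrum (A ⊗[k] L)) :=
      e₁.trans e₂.symm
    intro h₃
    apply h₂
    have h₄ : e' ∈ (PrimeSpectrum.comap (Algebra.TensorProduct.map (AlgHom.id k A) k'.val).toRingHom
        (w₂ : PrimeSpectrum (A ⊗[k] L))).asIdeal := h₃
    rw [← e₃] at h₄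
    exact h₄
  have hlift : ∀ y : Points P, Points.map m y = Points.ofPt cQ z → ∃ w : ↥(alg s (A ⊗[k] L)).left,
      (algMap s (Algebra.TensorProduct.map (AlgHom.id k A) k'.val)).left w = z ∧ Points.ofPt cL' w = y := by
    intro y hy
    obtain ⟨r, hr1, hr2⟩ := K609.Points.exists_of_isPullback hsqm (Points.ofScheme _ z) y (by
      rw [← Points.ofPt_eq_map_ofScheme, hy])
    obtain ⟨w, rfl⟩ := K609.Points.ofScheme_surjective _ r
    rw [K609.Points.map_yon_map_ofScheme] at hr1
    refine ⟨w, K609.Points.ofScheme_injective _ hr1, ?_⟩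
    rw [Points.ofPt_eq_map_ofScheme, hr2]
  have h2 : IsClopen (Points.map m '' V) := ⟨hcl _ hV.1, hop _ hV.2⟩
  have h3 : IsClopen (Points.map m '' Vᶜ) := ⟨hcl _ hV.compl.1, hop _ hV.compl.2⟩
  rcases isClopen_iff.1 h2 with h2 | h2
  · left
    exact Set.image_eq_empty.1 h2
  rcases isClopen_iff.1 h3 with h3 | h3
  · right
    rw [← Set.compl_empty_iff]
    exact Set.image_eq_empty.1 h3
  exfalso
  obtain ⟨y₁, hy₁, e₁⟩ : Points.ofPt cQ z ∈ Points.map m '' V := by rw [h2]; trivial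
  obtain ⟨y₂, hy₂, e₂⟩ : Points.ofPt cQ z ∈ Points.map m '' Vᶜ := by rw [h3]; trivial
  obtain ⟨w₁, hw₁, rfl⟩ := hlift y₁ e₁
  obtain ⟨w₂, hw₂, rfl⟩ := hlift y₂ e₂
  exact hy₂ (key w₁ w₂ hw₁ hw₂ hy₁)

end K639.ConnSep
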