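import Groth.Agent.AlgSp.K639.Red
import Groth.Agent.AlgSp.K609.Points
import Groth.Agent.Ega43.GeomAt
import Groth.Agent.Ega43.GeomRedMain
import Groth.Agent.Etbase.EtaleStalk

/-!
# Geometrically reduced fibres: the pointwise version and openness for flat proper morphisms
-/

set_option autoImplicit false

universe u

open CategoryTheory CategoryTheory.Limits AlgebraicGeometry Opposite AlgSp
open K639.Diag K639.Fib K639.Diag2 K639.Red Groth.Agent

namespace K639.GeomRedOpen

variable {S : Scheme.{u}} {F X Y XV XT : Sp S}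

/-- Geometric reducedness of a morphism at a point. -/
abbrev RedAt {U V : Scheme.{u}} (h : U ⟶ V) (u : U) : Prop :=
  Ega43.GeomAt.GeomAt (fun R _ => _root_.IsReduced R) h u

theorem isoClosed : Ega43.GeomAt.IsoClosed (fun (R : Type u) _ => _root_.IsReduced R) :=
  fun _ _ _ _ e _ => isReduced_of_injective e.symm e.symm.injective

/-- Geometric reducedness at a point is étale local on the source. -/
theorem redAt_comp_etale {U' U V : Scheme.{u}} (e : U' ⟶ U) [Etale e] (h : U ⟶ V) [LocallyOfFiniteType h] (u' : U') :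
    RedAt (e ≫ h) u' ↔ RedAt h (e u') := by
  constructor
  · intro H K _ Z a b j hpb z hz
    obtain ⟨z', hz1, hz2⟩ := Scheme.Pullback.exists_preimage_pullback (f := a) (g := e) z u' hz
    have h1 := (IsPullback.of_hasPullback a e).flip.paste_vert hpb
    have h2 := H K _ _ _ j h1 z' hz2
    have : LocallyOfFiniteType b := MorphismProperty.of_isPullback (P := @LocallyOfFiniteType) hpb inferInstance
    have : IsLocallyNoetherian Z := LocallyOfFiniteType.isLocallyNoetherian b
    have h3 := (Etbase.EtaleStalk.isReduced_stalk_iff (pullback.fst a e) z').1 h2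
    rw [hz1] at h3
    exact h3
  · intro H K _ Z a b j hpb z hz
    let ι : Z ⟶ pullback h j := pullback.lift (a ≫ e) b (by rw [Category.assoc, hpb.w])
    have h1 : IsPullback a ι e (pullback.fst h j) := by
      refine IsPullback.of_bot ?_ (pullback.lift_fst _ _ _).symm (IsPullback.of_hasPullback h j)
      rw [pullback.lift_snd]
      exact hpb
    have : Etale ι := MorphismProperty.of_isPullback (P := @Etale) h1 inferInstance
    have h2 := H K _ _ _ j (IsPullback.of_hasPullback h j) (ι.base z) (by
      rw [← Scheme.Hom.comp_apply, pullback.lift_fst, Scheme.Hom.comp_apply, hz])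
    have : IsLocallyNoetherian (pullback h j) := LocallyOfFiniteType.isLocallyNoetherian (pullback.snd h j)
    exact (Etbase.EtaleStalk.isReduced_stalk_iff ι z).2 h2

/-- A fibre is geometrically reduced iff all of its points are. -/
theorem geometricallyReduced_fiber_iff {U V : Scheme.{u}} (h : U ⟶ V) (v : V) :
    GeometricallyReduced (h.fiberToSpecResidueField v) ↔ ∀ u : U, h u = v → RedAt h u := by
  constructor
  · rintro H u rfl
    refine (Ega43.GeomAt.geomAt_fiber_iff isoClosed h u).1 ?_
    intro K _ _ x' _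
    have : IsReduced (FBase.bc (h.fiberToSpecResidueField (h u)) K) :=
      H.geometrically_isReduced _ _ _ (IsPullback.of_hasPullback _ _)
    infer_instance
  · intro H
    rw [geometricallyReduced_iff, geometrically_iff_of_isClosedUnderIsomorphisms]
    intro K _ y
    have sq : IsPullback (pullback.fst (h.fiberToSpecResidueField v) y ≫ h.fiberι v)
        (pullback.snd (h.fiberToSpecResidueField v) y) h (y ≫ V.fromSpecResidueField v) :=
      (IsPullback.of_hasPullback (h.fiberToSpecResidueField v) y).paste_horiz (IsPullback.of_hasPullback _ _)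
    have : ∀ z : ↥(pullback (h.fiberToSpecResidueField v) y), _root_.IsReduced
        ((pullback (h.fiberToSpecResidueField v) y).presheaf.stalk z) := by
      intro z
      refine H _ ?_ K _ _ _ _ sq z rfl
      rw [← Scheme.Hom.comp_apply, sq.w, Scheme.Hom.comp_apply, Scheme.Hom.comp_apply,
        Scheme.fromSpecResidueField_apply]
    exact isReduced_of_isReduced_stalk _

/-- The locus of the base over which the fibres are geometrically reduced, seen on a chart. -/
theorem preimage_locus {f : X ⟶ Y} (hX : IsAlgSpace X) (hY : IsAlgSpace Y) {V U : Over S} {g : (yon S).obj V ⟶ Y}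
    {α : XV ⟶ X} {β : XV ⟶ (yon S).obj V} (sq : IsPullback α β f g) {c : (yon S).obj U ⟶ XV}
    (hc : RepWith @Etale c) (hcs : RepWith @Surjective c) {h : U ⟶ V} (hch : c ≫ β = (yon S).map h) :
    Points.ofPt g ⁻¹' {y : Points Y | ∀ k : FieldPt Y, Points.mk k = y → GeomRedAt f k} =
      (h.left '' {u | ¬ RedAt h.left u})ᶜ := by
  ext v
  have h2 := geomRedAt_ofPt_iff sq hc hcs hch v
  rw [geometricallyReduced_fiber_iff] at h2
  have h3 : v ∈ Points.ofPt g ⁻¹' {y : Points Y | ∀ k : FieldPt Y, Points.mk k = y → GeomRedAt f k} ↔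
      GeomRedAt f (FieldPt.ofPt g v) :=
    ⟨fun H => H (FieldPt.ofPt g v) rfl, fun H k hk => geomRedAt_of_mk_eq hX hY hk.symm H⟩
  rw [h3, h2]
  simp only [Set.mem_compl_iff, Set.mem_image, Set.mem_ofPred_eq, not_exists, not_and]
  constructor
  · intro H u hu e
    exact hu (H u e)
  · intro H u e
    by_contra hu
    exact H u hu e

/-- The image of a closed set of a chart of `X ×_Y V`, saturated for the étale equivalence relation, in `V`. -/
theorem isClosed_image_of_saturated {f : X ⟶ Y} (hf : IsUnivClosedMor f) {V U : Over S} {g : (yon S).obj V ⟶ Y}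
    {α : XV ⟶ X} {β : XV ⟶ (yon S).obj V} (sq : IsPullback α β f g) {c : (yon S).obj U ⟶ XV}
    (hc : RepWith @Etale c) (hcs : RepWith @Surjective c) {h : U ⟶ V} (hch : c ≫ β = (yon S).map h)
    (B : Set U.left) (hB : IsClosed B)
    (hs : ∀ u₁ u₂ : U.left, Points.ofPt c u₁ = Points.ofPt c u₂ → u₁ ∈ B → u₂ ∈ B) :
    IsClosed (h.left '' B) := by
  have h1 : Points.ofPt c ⁻¹' (Points.ofPt c '' B) = B := by
    ext u
    constructor
    · rintro ⟨u', hu', e⟩
      exact hs u' u e hu'
    · intro hu
      exact ⟨u, hu, rfl⟩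
  have h2 : IsClosed (Points.ofPt c '' B) := by
    rw [← (K609.Points.isQuotientMap_ofPt hc hcs).isClosed_preimage, h1]
    exact hB
  have h3 : IsClosed (Points.map β '' (Points.ofPt c '' B)) := hf (IsAlgSpace.yon_obj V) g α β sq _ h2
  have h4 := (Points.schemeHomeo V).symm.isClosedMap _ h3
  convert h4 using 1
  ext v
  constructor
  · rintro ⟨u, hu, rfl⟩
    refine ⟨_, ⟨_, ⟨u, hu, rfl⟩, rfl⟩, ?_⟩
    rw [Points.map_ofPt, hch, K609.Points.ofPt_yon_map]
    exact (Points.schemeHomeo V).symm_apply_apply _
  · rintro ⟨_, ⟨_, ⟨u, hu, rfl⟩, rfl⟩, e⟩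
    refine ⟨u, hu, ?_⟩
    rw [← e, Points.map_ofPt, hch, K609.Points.ofPt_yon_map]
    exact ((Points.schemeHomeo V).symm_apply_apply _).symm

/-- The geometrically reduced locus of a chart is saturated. -/
theorem redAt_saturated {V U : Over S} {β : XV ⟶ (yon S).obj V} {c : (yon S).obj U ⟶ XV}
    (hc : RepWith @Etale c) {h : U ⟶ V} [LocallyOfFiniteType h.left] (hch : c ≫ β = (yon S).map h)
    {u₁ u₂ : U.left} (e : Points.ofPt c u₁ = Points.ofPt c u₂) (H : RedAt h.left u₁) : RedAt h.left u₂ := by
  obtain ⟨R, p, q, sq, hq⟩ := exists_pullback hc c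
  have hp : Etale p.left := hc.2 c _ _ sq.flip
  have hq' : Etale q.left := hq
  obtain ⟨r, rfl, rfl⟩ := (K609.Points.ofPt_eq_ofPt_iff sq u₁ u₂).1 e
  have w : p ≫ h = q ≫ h := by
    apply (yon S).map_injective
    rw [Functor.map_comp, Functor.map_comp, ← hch, ← Category.assoc, ← Category.assoc, sq.w]
  have w' : p.left ≫ h.left = q.left ≫ h.left := congrArg (fun t => t.left) w
  have h1 := (redAt_comp_etale p.left h.left r).2 H
  rw [w'] at h1
  exact (redAt_comp_etale q.left h.left r).1 h1

end K639.GeomRedOpen
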