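import Groth.Agent.AlgSp.K639.Dim
import Groth.Agent.AlgSp.K639.GeomRedOpen
import Groth.Agent.S0404
import Groth.Agent.S0402

/-!
# Semicontinuity of the dimension of the fibres of a morphism of algebraic spaces
-/

set_option autoImplicit false

universe u

open CategoryTheory CategoryTheory.Limits AlgebraicGeometry Opposite AlgSp
open K639.Diag K639.Fib K639.Diag2 K639.Red K639.Dim Groth.Agent

namespace K639.Dim2

section scheme

theorem fibreDimAt_comp_open {U V V₀ U₀ : Scheme.{u}} (h : U ⟶ V) [LocallyOfFiniteType h] (i : U₀ ⟶ U)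
    [IsOpenImmersion i] (j : V₀ ⟶ V) [IsOpenImmersion j] (h₀ : U₀ ⟶ V₀) (w : i ≫ h = h₀ ≫ j) (u : U₀) :
    FlatMor.fibreDimAt h (i u) = FlatMor.fibreDimAt h₀ u :=
  K616.DimInv.fibreDimAt_square h h₀ i j w u

/-- Lower semicontinuity of the dimension of the fibres for flat morphisms locally of finite presentation. -/
theorem isOpen_lt_dim_fiber {U V : Scheme.{u}} (h : U ⟶ V) [Flat h] [LocallyOfFinitePresentation h]
    (d : WithBot ℕ∞) : IsOpen {v : V | d < topologicalKrullDim (h.fiber v)} := by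
  rw [isOpen_iff_forall_mem_open]
  intro v hv
  change d < topologicalKrullDim (h.fiber v) at hv
  rw [lt_dim_fiber_iff] at hv
  obtain ⟨u, rfl, hu⟩ := hv
  obtain ⟨V₀, hV₀, hvV, -⟩ := exists_isAffineOpen_mem_and_subset (U := ⊤) (x := h u) (by trivial)
  obtain ⟨U₀, hU₀, huU, hUV⟩ := exists_isAffineOpen_mem_and_subset (U := h ⁻¹ᵁ V₀) (x := u) hvV
  have e : U₀ ≤ h ⁻¹ᵁ V₀ := hUV
  let h₀ := h.resLE V₀ U₀ e
  have w : U₀.ι ≫ h = h₀ ≫ V₀.ι := (Scheme.Hom.resLE_comp_ι h e).symm
  have : IsAffine U₀ := hU₀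
  have : IsAffine V₀ := hV₀
  have h1 : Flat h₀ := inferInstance
  have h2 : LocallyOfFinitePresentation h₀ := inferInstance
  have h3 := Groth.Agent.S0404.result h₀ d
  refine ⟨V₀.ι '' {v | d < topologicalKrullDim (h₀.fiber v)}, ?_, V₀.ι.isOpenEmbedding.isOpenMap _ h3, ?_⟩
  · rintro _ ⟨v, hv, rfl⟩
    obtain ⟨u', rfl, hu'⟩ := (lt_dim_fiber_iff h₀ v d).1 hv
    refine (lt_dim_fiber_iff h _ d).2 ⟨U₀.ι u', ?_, ?_⟩
    · rw [← Scheme.Hom.comp_apply, w, Scheme.Hom.comp_apply]
    · rw [fibreDimAt_comp_open h U₀.ι V₀.ι h₀ w u']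
      exact hu'
  · obtain ⟨u₀, hu₀⟩ : ∃ u₀ : (U₀ : Scheme.{u}), U₀.ι u₀ = u := ⟨⟨u, huU⟩, rfl⟩
    refine ⟨h₀ u₀, (lt_dim_fiber_iff h₀ _ d).2 ⟨u₀, rfl, ?_⟩, ?_⟩
    · rw [← fibreDimAt_comp_open h U₀.ι V₀.ι h₀ w, hu₀]
      exact hu
    · rw [← Scheme.Hom.comp_apply, ← w, Scheme.Hom.comp_apply, hu₀]

theorem natCast_ne_top (m : ℕ) : (m : WithBot ℕ∞) ≠ ⊤ :=
  fun h => ENat.natCast_ne_top m (WithBot.coe_injective h)

theorem cases_dim (d : WithBot ℕ∞) : d = ⊥ ∨ d = ⊤ ∨ ∃ n : ℕ, d = (n : WithBot ℕ∞) := by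
  induction d using WithBot.recBotCoe with
  | bot => exact Or.inl rfl
  | coe d =>
    rcases eq_or_ne d ⊤ with rfl | h
    · exact Or.inr (Or.inl rfl)
    · obtain ⟨n, rfl⟩ := ENat.ne_top_iff_exists.1 h
      exact Or.inr (Or.inr ⟨n, rfl⟩)

/-- The set of points where the local fibre dimension is at least `d` is closed. -/
theorem isClosed_le_fibreDimAt {U V : Scheme.{u}} (h : U ⟶ V) [LocallyOfFiniteType h] (d : WithBot ℕ∞) :
    IsClosed {u : U | d ≤ FlatMor.fibreDimAt h u} := by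
  obtain rfl | rfl | ⟨n, rfl⟩ := cases_dim d
  · simp
  · have : {u : U | ⊤ ≤ FlatMor.fibreDimAt h u} = ∅ := by
      ext u
      simp only [Set.mem_ofPred_eq, Set.mem_empty_iff_false, iff_false]
      obtain ⟨m, hm⟩ := Flat2D.FibDimNat.exists_nat_fibreDimAt h u
      rw [hm, top_le_iff]
      exact (natCast_ne_top m)
    rw [this]
    exact isClosed_empty
  · rcases n with _ | n
    · have : {u : U | ((0 : ℕ) : WithBot ℕ∞) ≤ FlatMor.fibreDimAt h u} = Set.univ := by
        ext u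
        simp only [Set.mem_ofPred_eq, Set.mem_univ, iff_true]
        obtain ⟨m, hm⟩ := Flat2D.FibDimNat.exists_nat_fibreDimAt h u
        rw [hm]
        exact_mod_cast Nat.zero_le m
      rw [this]
      exact isClosed_univ
    · have h1 := Groth.Agent.S0402.result h n
      rw [← isOpen_compl_iff]
      convert h1 using 1
      ext u
      simp only [Set.mem_compl_iff, Set.mem_ofPred_eq, not_le]
      obtain ⟨m, hm⟩ := Flat2D.FibDimNat.exists_nat_fibreDimAt h u
      rw [hm]
      norm_cast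
      exact Nat.lt_succ_iff

/-- Local fibre dimensions are bounded on quasi-compact schemes. -/
theorem exists_bound {U V : Scheme.{u}} (h : U ⟶ V) [LocallyOfFiniteType h] [CompactSpace U] :
    ∃ N : ℕ, ∀ u : U, FlatMor.fibreDimAt h u ≤ N := by
  have h1 : ∀ n : ℕ, IsOpen {u : U | FlatMor.fibreDimAt h u ≤ n} := fun n => Groth.Agent.S0402.result h n
  obtain ⟨N, hN⟩ := isCompact_univ.elim_directed_cover (fun n : ℕ => {u : U | FlatMor.fibreDimAt h u ≤ n}) h1
    (by
      intro u _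
      obtain ⟨m, hm⟩ := Flat2D.FibDimNat.exists_nat_fibreDimAt h u
      exact Set.mem_iUnion.2 ⟨m, hm.le⟩)
    (by
      intro m n
      refine ⟨max m n, ?_, ?_⟩
      · intro u hu
        have hu' : FlatMor.fibreDimAt h u ≤ (m : WithBot ℕ∞) := hu
        exact hu'.trans (by exact_mod_cast le_max_left m n)
      · intro u hu
        have hu' : FlatMor.fibreDimAt h u ≤ (n : WithBot ℕ∞) := hu
        exact hu'.trans (by exact_mod_cast le_max_right m n))
  exact ⟨N, fun u => hN (Set.mem_univ u)⟩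

/-- The dimension of the fibre is attained for quasi-compact sources. -/
theorem le_dim_fiber_iff {U V : Scheme.{u}} (h : U ⟶ V) [LocallyOfFiniteType h] [CompactSpace U] (v : V)
    {d : WithBot ℕ∞} (hd : d ≠ ⊥) :
    d ≤ topologicalKrullDim (h.fiber v) ↔ ∃ u : U, h u = v ∧ d ≤ FlatMor.fibreDimAt h u := by
  constructor
  · intro H
    by_contra hcon
    push Not at hcon
    obtain ⟨N, hN⟩ := exists_bound h
    have h2 : topologicalKrullDim (h.fiber v) ≤ N := (dim_fiber_le_iff h v _).2 fun u _ => hN u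
    obtain rfl | rfl | ⟨n, rfl⟩ := cases_dim d
    · exact hd rfl
    · have h3 := H.trans h2
      rw [top_le_iff] at h3
      exact natCast_ne_top N h3
    · rcases n with _ | n
      · have h3 : topologicalKrullDim (h.fiber v) ≤ ⊥ := by
          refine (dim_fiber_le_iff h v _).2 fun u hu => ?_
          have h4 := hcon u hu
          obtain ⟨m, hm⟩ := Flat2D.FibDimNat.exists_nat_fibreDimAt h u
          rw [hm] at h4
          norm_cast at h4
        have h6 := H.trans h3
        rw [le_bot_iff] at h6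
        exact absurd h6 (WithBot.natCast_ne_bot _)
      · have h3 : topologicalKrullDim (h.fiber v) ≤ (n : ℕ) := by
          refine (dim_fiber_le_iff h v _).2 fun u hu => ?_
          have h4 := hcon u hu
          obtain ⟨m, hm⟩ := Flat2D.FibDimNat.exists_nat_fibreDimAt h u
          rw [hm] at h4 ⊢
          norm_cast at h4 ⊢
          exact Nat.lt_succ_iff.1 h4
        have h6 := H.trans h3
        norm_cast at h6
        exact absurd h6 (not_le.2 (Nat.lt_succ_self n))
  · rintro ⟨u, rfl, hu⟩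
    exact hu.trans ((dim_fiber_le_iff h _ _).1 le_rfl u rfl)

end scheme

variable {S : Scheme.{u}} {F X Y XV XT : Sp S}

/-- The points of the source above a point of a chart of the target. -/
theorem map_eq_ofPt_iff {f : X ⟶ Y} {V U : Over S} {g : (yon S).obj V ⟶ Y} {α : XV ⟶ X} {β : XV ⟶ (yon S).obj V}
    (sq : IsPullback α β f g) {c : (yon S).obj U ⟶ XV} (hcs : RepWith @Surjective c) {h : U ⟶ V}
    (hch : c ≫ β = (yon S).map h) (x : Points X) (v : V.left) :
    Points.map f x = Points.ofPt g v ↔ ∃ u : U.left, h.left u = v ∧ Points.ofPt (c ≫ α) u = x := by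
  constructor
  · intro e
    rw [Points.ofPt_eq_map_ofScheme] at e
    obtain ⟨p, hp1, hp2⟩ := K609.Points.exists_of_isPullback sq _ _ e
    obtain ⟨u, rfl⟩ := K609.Points.surjective_ofPt_of_repWith_surjective hcs p
    rw [Points.map_ofPt] at hp1 hp2
    refine ⟨u, ?_, hp1⟩
    rw [hch, K609.Points.ofPt_yon_map] at hp2
    exact K609.Points.ofScheme_injective _ hp2
  · rintro ⟨u, rfl, rfl⟩
    rw [Points.map_ofPt, Category.assoc, sq.w, ← Category.assoc, hch, K609.Points.ofPt_yon_map_comp]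

/-- The open subscheme of a chart, as an object over `S`. -/
theorem exists_affine_open (V : Over S) (v : V.left) : ∃ (V₀ : Over S) (i : V₀ ⟶ V) (v₀ : V₀.left),
    IsAffine V₀.left ∧ IsOpenImmersion i.left ∧ i.left v₀ = v := by
  obtain ⟨V₀, hV₀, hvV, -⟩ := exists_isAffineOpen_mem_and_subset (U := ⊤) (x := v) (by trivial)
  exact ⟨Over.mk (V₀.ι ≫ V.hom), Over.homMk V₀.ι rfl, ⟨v, hvV⟩, hV₀, inferInstanceAs (IsOpenImmersion V₀.ι), rfl⟩

/-- Openness can be tested on étale charts which are affine. -/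
theorem isOpen_of_affine_charts (hY : IsAlgSpace Y) (E : Set (Points Y))
    (H : ∀ (V : Over S) (_ : IsAffine V.left) (g : (yon S).obj V ⟶ Y), RepWith @Etale g → IsOpen (Points.ofPt g ⁻¹' E)) :
    IsOpen E := by
  obtain ⟨V, g, hg, hgs⟩ := hY.atlas
  rw [← (K609.Points.isQuotientMap_ofPt hg hgs).isOpen_preimage, isOpen_iff_forall_mem_open]
  intro v hv
  obtain ⟨V₀, i, v₀, hV₀, hi, rfl⟩ := exists_affine_open V v
  have h1 := H V₀ hV₀ ((yon S).map i ≫ g) (repWith_comp ((repWith_yon_map_iff @Etale i).2 inferInstance) hg)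
  refine ⟨i.left '' (Points.ofPt ((yon S).map i ≫ g) ⁻¹' E), ?_, i.left.isOpenEmbedding.isOpenMap _ h1, ⟨v₀, ?_, rfl⟩⟩
  · rintro _ ⟨w, hw, rfl⟩
    rw [Set.mem_preimage, K609.Points.ofPt_yon_map_comp] at hw
    exact hw
  · rw [Set.mem_preimage, K609.Points.ofPt_yon_map_comp]
    exact hv

theorem isQuasiCompactSp_yon (V : Over S) [CompactSpace V.left] : IsQuasiCompactSp ((yon S).obj V) :=
  ⟨V, (yon S).map (𝟙 V), (repWith_yon_map_iff @Etale (𝟙 V)).2 (inferInstanceAs (Etale (𝟙 V.left))),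
      (repWith_yon_map_iff @Surjective (𝟙 V)).2 (inferInstanceAs (Surjective (𝟙 V.left))), ‹_›⟩

/-- For a quasi-compact morphism and an affine chart of the target, a quasi-compact chart of the base change. -/
theorem exists_chart_of_qc {f : X ⟶ Y} (hf : IsQuasiCompactMor f) {V : Over S} [IsAffine V.left]
    {g : (yon S).obj V ⟶ Y} {α : XV ⟶ X} {β : XV ⟶ (yon S).obj V} (sq : IsPullback α β f g) :
    ∃ (U : Over S) (c : (yon S).obj U ⟶ XV) (h : U ⟶ V), RepWith @Etale c ∧ RepWith @Surjective c ∧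
      c ≫ β = (yon S).map h ∧ CompactSpace U.left := by
  obtain ⟨U, c, hc, hcs, hU⟩ := hf (IsAlgSpace.yon_obj V) (isQuasiCompactSp_yon V) g _ _ sq
  obtain ⟨h, hch⟩ := (yon S).map_surjective (c ≫ β)
  exact ⟨U, c, h, hc, hcs, hch.symm, hU⟩

/-- The local fibre dimension is constant on the classes of the étale equivalence relation. -/
theorem fibreDimAt_saturated {V U : Over S} {β : XV ⟶ (yon S).obj V} {c : (yon S).obj U ⟶ XV}
    (hc : RepWith @Etale c) {h : U ⟶ V} [LocallyOfFiniteType h.left] (hch : c ≫ β = (yon S).map h)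
    {u₁ u₂ : U.left} (e : Points.ofPt c u₁ = Points.ofPt c u₂) :
    FlatMor.fibreDimAt h.left u₁ = FlatMor.fibreDimAt h.left u₂ := by
  obtain ⟨R, p, q, sq, hq⟩ := exists_pullback hc c
  have hp : Etale p.left := hc.2 c _ _ sq.flip
  have hq' : Etale q.left := hq
  obtain ⟨r, rfl, rfl⟩ := (K609.Points.ofPt_eq_ofPt_iff sq u₁ u₂).1 e
  have w : p ≫ h = q ≫ h := by
    apply (yon S).map_injective
    rw [Functor.map_comp, Functor.map_comp, ← hch, ← Category.assoc, ← Category.assoc, sq.w]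
  have w' : p.left ≫ h.left = q.left ≫ h.left := congrArg (fun t => t.left) w
  rw [← K616.DimInv.fibreDimAt_comp_of_etale, ← K616.DimInv.fibreDimAt_comp_of_etale, w']

end K639.Dim2
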