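import Mathlib.AlgebraicGeometry.Fiber
import Groth.Agent.AlgSp.K639.Diag

/-!
# Charts of base changes and fibres

* `exists_chart_baseChange`: a chart `h_U ⟶ X ×_Y V` gives, for `T ⟶ V`, a chart `h_{U ×_V T} ⟶ X ×_Y T`.
* `exists_etale_to_baseChange`: a chart diagram gives an étale `h_U ⟶ X ×_Y V`.
-/

set_option autoImplicit false

universe u

open CategoryTheory CategoryTheory.Limits AlgebraicGeometry Opposite AlgSp
open K639.Diag

namespace K639.Fib

variable {S : Scheme.{u}} {F G XV XT : Sp S} {f : F ⟶ G} {V T U UT : Over S}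

/-- Base change of a chart of `X ×_Y V` along `T ⟶ V`. -/
theorem exists_chart_baseChange {g : (yon S).obj V ⟶ G} {α : XV ⟶ F} {β : XV ⟶ (yon S).obj V}
    (sq : IsPullback α β f g) {c : (yon S).obj U ⟶ XV} {h : U ⟶ V} (hc : c ≫ β = (yon S).map h)
    (t : T ⟶ V) {α' : XT ⟶ F} {β' : XT ⟶ (yon S).obj T} (sq' : IsPullback α' β' f ((yon S).map t ≫ g))
    {p₁ : UT ⟶ U} {p₂ : UT ⟶ T} (sqU : IsPullback p₁ p₂ h t) :
    ∃ (cT : (yon S).obj UT ⟶ XT) (m : XT ⟶ XV), cT ≫ α' = (yon S).map p₁ ≫ c ≫ α ∧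
      cT ≫ β' = (yon S).map p₂ ∧ IsPullback ((yon S).map p₁) cT c m ∧ m ≫ α = α' ∧
      m ≫ β = β' ≫ (yon S).map t ∧ IsPullback m β' β ((yon S).map t) := by
  have w1 : α' ≫ f = (β' ≫ (yon S).map t) ≫ g := by rw [sq'.w, Category.assoc]
  let m : XT ⟶ XV := sq.lift α' (β' ≫ (yon S).map t) w1
  have hm1 : m ≫ α = α' := sq.lift_fst _ _ _
  have hm2 : m ≫ β = β' ≫ (yon S).map t := sq.lift_snd _ _ _
  have sqm : IsPullback m β' β ((yon S).map t) := by
    refine IsPullback.of_right (h₁₂ := α) (v₁₃ := f) (h₂₂ := g) ?_ hm2 sq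
    rw [hm1]
    exact sq'
  have w2 : ((yon S).map p₁ ≫ c) ≫ β = (yon S).map p₂ ≫ (yon S).map t := by
    rw [Category.assoc, hc, ← Functor.map_comp, sqU.w, Functor.map_comp]
  let cT : (yon S).obj UT ⟶ XT := sqm.lift _ _ w2
  have hcT1 : cT ≫ m = (yon S).map p₁ ≫ c := sqm.lift_fst _ _ _
  have hcT2 : cT ≫ β' = (yon S).map p₂ := sqm.lift_snd _ _ _
  refine ⟨cT, m, ?_, hcT2, ?_, hm1, hm2, sqm⟩
  · rw [← hm1, ← Category.assoc, hcT1, Category.assoc]
  · have h1 : IsPullback ((yon S).map p₁) ((yon S).map p₂) ((yon S).map h) ((yon S).map t) := sqU.map (yon S)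
    refine IsPullback.of_bot (v₂₁ := β') (v₂₂ := β) (h₃₁ := (yon S).map t) ?_ hcT1.symm sqm
    rw [hcT2, hc]
    exact h1

/-- A chart diagram gives an étale map `h_U ⟶ X ×_Y V`. -/
theorem exists_etale_to_baseChange {a : (yon S).obj U ⟶ F} {b : (yon S).obj V ⟶ G} {h : U ⟶ V}
    (ha : RepWith @Etale a) (hb : RepWith @Etale b) (w : a ≫ f = (yon S).map h ≫ b)
    {α : XV ⟶ F} {β : XV ⟶ (yon S).obj V} (sq : IsPullback α β f b) :
    ∃ c : (yon S).obj U ⟶ XV, RepWith @Etale c ∧ c ≫ α = a ∧ c ≫ β = (yon S).map h := by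
  refine ⟨sq.lift a _ w, ?_, sq.lift_fst _ _ _, sq.lift_snd _ _ _⟩
  refine repWith_of_comp (Q := @Etale) (d := α) (repWith_of_isPullback sq.flip hb) ?_
  rw [sq.lift_fst]
  exact ha

/-- The fibre of `h : U ⟶ V` (over `S`) over `v`, as an object over `S`. -/
noncomputable abbrev fibOver {U V : Over S} (h : U ⟶ V) (v : ↥V.left) : Over S :=
  Over.mk (h.left.fiberι v ≫ U.hom)

/-- `Spec κ(v)` over `S`. -/
noncomputable abbrev resOver (V : Over S) (v : ↥V.left) : Over S :=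
  Over.mk (V.left.fromSpecResidueField v ≫ V.hom)

/-- `Spec κ(v) ⟶ V` over `S`. -/
noncomputable abbrev resMap (V : Over S) (v : ↥V.left) : resOver V v ⟶ V :=
  Over.homMk (V.left.fromSpecResidueField v) rfl

noncomputable abbrev fibι {U V : Over S} (h : U ⟶ V) (v : ↥V.left) : fibOver h v ⟶ U :=
  Over.homMk (h.left.fiberι v) rfl

noncomputable abbrev fibRes {U V : Over S} (h : U ⟶ V) (v : ↥V.left) : fibOver h v ⟶ resOver V v :=
  Over.homMk (h.left.fiberToSpecResidueField v) (by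
    change h.left.fiberToSpecResidueField v ≫ V.left.fromSpecResidueField v ≫ V.hom = h.left.fiberι v ≫ U.hom
    rw [← Over.w h, ← Category.assoc, ← Category.assoc, h.left.fiber_fac v])

theorem isPullback_fib {U V : Over S} (h : U ⟶ V) (v : ↥V.left) :
    IsPullback (fibι h v) (fibRes h v) h (resMap V v) := by
  refine IsPullback.of_map (Over.forget S) ?_ ?_
  · exact Over.OverMorphism.ext (h.left.fiber_fac v)
  · exact IsPullback.of_hasPullback h.left (V.left.fromSpecResidueField v)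

end K639.Fib
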