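import Groth.Agent.AlgSp.K639.Red
import Groth.Agent.AlgSp.K609.Points
import Mathlib.FieldTheory.IsSepClosed
import Mathlib.AlgebraicGeometry.Sites.EtalePoint

/-!
# Lifting geometric points through étale morphisms
-/

set_option autoImplicit false

universe u

open CategoryTheory CategoryTheory.Limits AlgebraicGeometry Opposite AlgSp
open K639.Diag K639.Fib K639.Diag2 K639.Red Groth.Agent

namespace K639.GeomLift

variable {S : Scheme.{u}} {F X Y : Sp S}

/-- A geometric point lifts through an étale morphism from a scheme, through any prescribed point. -/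
theorem exists_lift_geom {p : FieldPt Y} (hp : IsSepClosed p.K) {V : Over S} {g : (yon S).obj V ⟶ Y}
    (hg : RepWith @Etale g) (v : V.left) (hv : Points.ofPt g v = Points.mk p) :
    ∃ c : p.pt ⟶ V, (yon S).map c ≫ g = p.toHom ∧ c.left (IsLocalRing.closedPoint p.K) = v := by
  obtain ⟨R, a, q, sq, hq⟩ := exists_pullback hg p.toHom
  have hq' : Etale q.left := hq
  obtain ⟨r, hr1, hr2⟩ := (K609.Points.ofPt_eq_ofPt_iff sq v (IsLocalRing.closedPoint p.K)).1
    (hv.trans (Points.ofPt_toHom p _).symm)
  obtain ⟨l, hl1, hl2⟩ := Scheme.exists_fac_of_etale_of_isSepClosed q.left (𝟙 (Spec (CommRingCat.of p.K))) r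
    (Subsingleton.elim (α := PrimeSpectrum p.K) _ _)
  have hl1' : l ≫ q.left = 𝟙 _ := hl1
  let c' : p.pt ⟶ R := Over.homMk l (by
    rw [← Over.w q, ← Category.assoc, hl1']
    exact Category.id_comp _)
  have hc' : c' ≫ q = 𝟙 _ := Over.OverMorphism.ext hl1
  refine ⟨c' ≫ a, ?_, ?_⟩
  · rw [Functor.map_comp, Category.assoc, sq.w, ← Category.assoc, ← Functor.map_comp, hc', (yon S).map_id,
      Category.id_comp]
  · rw [← hr1]
    refine congrArg a.left ?_
    rw [← hl2]
    exact congrArg l (Subsingleton.elim (α := PrimeSpectrum p.K) _ _)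

end K639.GeomLift
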