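import Groth.Agent.AlgSp.K639.UscMain
import Groth.Agent.AlgSp.K639.Dim2

/-!
# Upper semicontinuity of the number of geometric connected components: the local statement
-/

set_option autoImplicit false

universe u

open CategoryTheory CategoryTheory.Limits AlgebraicGeometry Opposite AlgSp
open K639.Diag K639.Fib K639.Diag2 K639.Red K639.Semi K639.Usc K639.Piece K639.UscMain K639.Dim2 Groth.Agent

namespace K639.UscLocal

variable {S : Scheme.{u}} {X Y XV : Sp S}

theorem compactSpace_points {F : Sp S} (hF : IsQuasiCompactSp F) : CompactSpace (Points F) := by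
  obtain ⟨U, c, hc, hcs, hU⟩ := hF
  have h := K609.Points.surjective_ofPt_of_repWith_surjective hcs
  refine ⟨?_⟩
  rw [← h.range_eq]
  exact isCompact_range (Points.continuous_ofPt c)

/-- The refinement of a piece to a finer étale neighbourhood. -/
theorem exists_refined {f : X ⟶ Y} {V : Over S} {g : (yon S).obj V ⟶ Y} (hg : RepWith @Etale g)
    {α : XV ⟶ X} {β : XV ⟶ (yon S).obj V}
    (sq : IsPullback α β f g) {k : FieldPt Y} {c : k.pt ⟶ V} {Xk : Sp S} {a : Xk ⟶ X} {b : Xk ⟶ (yon S).obj k.pt}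
    (p : Piece f k) (ρ : V ⟶ p.V) (hρ : (yon S).map ρ ≫ p.g = g)
    (hρc : c ≫ ρ = p.c) {m : Xk ⟶ XV} (hm : m ≫ α = a) (hmb : m ≫ β = b ≫ (yon S).map c) :
    ∃ (U' : Over S) (π : (yon S).obj U' ⟶ XV) (h' : U' ⟶ V), RepWith @Etale π ∧ π ≫ β = (yon S).map h' ∧
      GeometricallyConnected h'.left ∧
      ∀ x' ∈ p.covered a b, Points.map m x' ∈ Set.range (Points.ofPt π) := by
  obtain ⟨Q, q₁, q₂, e, sqQ, e1, e2⟩ := exists_isPullback_over p.h ρ
  have hρe : Etale ρ.left := etale_left_of_comp hg p.hg hρ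
  have hq₁ : RepWith @Etale ((yon S).map q₁) :=
    repWith_of_isPullback (sqQ.map (yon S)).flip ((repWith_yon_map_iff @Etale ρ).2 hρe)
  have w' : ((yon S).map q₁ ≫ p.a) ≫ f = (yon S).map q₂ ≫ g := by
    rw [Category.assoc, p.w, ← Category.assoc, ← Functor.map_comp, sqQ.w, Functor.map_comp, Category.assoc, hρ]
  obtain ⟨π, hπ, hπα, hπβ⟩ := exists_etale_to_baseChange (repWith_comp hq₁ p.ha) hg w' sq
  refine ⟨Q, π, q₂, hπ, hπβ, ?_, ?_⟩
  · rw [← e2]
    have := p.conn
    have hri : MorphismProperty.RespectsIso @GeometricallyConnected := MorphismProperty.IsStableUnderBaseChange.respectsIso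
    exact (MorphismProperty.cancel_left_of_respectsIso @GeometricallyConnected e.hom _).2 inferInstance
  · rintro _ ⟨T, ρT, p₁, p₂, t, h1, h2, h3, rfl⟩
    have h4 : p₁ ≫ p.h = (p₂ ≫ c) ≫ ρ := by rw [Category.assoc, hρc, h3]
    have h5 : ρT ≫ m = (yon S).map (sqQ.lift p₁ (p₂ ≫ c) h4) ≫ π := by
      apply sq.hom_ext
      · rw [Category.assoc, hm, h1, Category.assoc, hπα, ← Category.assoc, ← Functor.map_comp, sqQ.lift_fst]
      · rw [Category.assoc, hmb, ← Category.assoc, h2, Category.assoc, hπβ, ← Functor.map_comp, ← Functor.map_comp,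
          sqQ.lift_snd]
    rw [Points.map_ofPt, h5, K609.Points.ofPt_yon_map_comp]
    exact ⟨_, rfl⟩

/-- Openness of the map to a chart. -/
theorem isOpenMap_toV' {f : X ⟶ Y} (hX : IsAlgSpace X) (hfl : LocP @Flat f)
    (hfp : LocP @LocallyOfFinitePresentation f) {V : Over S} {g : (yon S).obj V ⟶ Y} (hg : RepWith @Etale g)
    {α : XV ⟶ X} {β : XV ⟶ (yon S).obj V} (sq : IsPullback α β f g) : IsOpenMap (toV β) := by
  obtain ⟨U₀, c, h₀, hc, hcs, hch⟩ := exists_chart_pullback hX hg.1 sq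
  have ha₀ : RepWith @Etale (c ≫ α) := repWith_comp hc (repWith_of_isPullback sq.flip hg)
  have w₀ : (c ≫ α) ≫ f = (yon S).map h₀ ≫ g := by rw [Category.assoc, sq.w, ← Category.assoc, hch]
  have h1 : Flat h₀.left := hfl _ g h₀ ha₀ hg w₀
  have h2 : LocallyOfFinitePresentation h₀.left := hfp _ g h₀ ha₀ hg w₀
  exact isOpenMap_toV hcs hch h₀.left.isOpenMap

/-- Upper semicontinuity in an étale neighbourhood. -/
theorem usc_local {f : X ⟶ Y} (hX : IsAlgSpace X) (hY : IsAlgSpace Y) (hfl : LocP @Flat f)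
    (hfp : LocP @LocallyOfFinitePresentation f) (hqc : IsQuasiCompactMor f) (huc : IsUnivClosedMor f)
    (hred : ∀ l : FieldPt Y, GeomRedAt f l) {k : FieldPt Y}
    (hk : k.IsGeometric) {Xk : Sp S} {a : Xk ⟶ X} {b : Xk ⟶ (yon S).obj k.pt} (sqk : IsPullback a b f k.toHom) :
    ENat.card (ConnectedComponents (Points Xk)) < ⊤ ∧
    ∃ (V : Over S) (g : (yon S).obj V ⟶ Y) (v₀ : V.left) (N : Set V.left), RepWith @Etale g ∧
        Points.ofPt g v₀ = Points.mk k ∧ v₀ ∈ N ∧ IsOpen N ∧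
        ∀ (l : FieldPt Y), l.IsGeometric → ∀ (c : l.pt ⟶ V), (yon S).map c ≫ g = l.toHom →
          c.left (IsLocalRing.closedPoint l.K) ∈ N → ∀ (Xl : Sp S) (a' : Xl ⟶ X) (b' : Xl ⟶ (yon S).obj l.pt),
          IsPullback a' b' f l.toHom → ENat.card (ConnectedComponents (Points Xl)) ≤
            ENat.card (ConnectedComponents (Points Xk)) := by
  classical
  choose P hP using fun x : Points Xk => exists_piece hX hY hfl hfp hred hk sqk x
  have : CompactSpace ↥k.pt.left := inferInstanceAs (CompactSpace (PrimeSpectrum k.K))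
  have hcpt : CompactSpace (Points Xk) :=
    compactSpace_points (hqc (IsAlgSpace.yon_obj k.pt) (isQuasiCompactSp_yon k.pt) k.toHom _ _ sqk)
  obtain ⟨s, hs⟩ := isCompact_univ.elim_finite_subcover (fun x => (P x).covered a b)
    (fun x => (P x).isOpen_covered sqk) (fun x _ => Set.mem_iUnion.2 ⟨x, hP x⟩)
  obtain ⟨V, g, c, hg, hc, H⟩ := exists_refinement hY hk P s
  obtain ⟨XV, α, β, sq⟩ : ∃ (XV : Sp S) (α : XV ⟶ X) (β : XV ⟶ _), IsPullback α β f g :=
    ⟨_, _, _, IsPullback.of_hasPullback _ _⟩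
  obtain ⟨m, hm, sqm⟩ := exists_toXV sq c hc sqk
  have H' : ∀ i : s, ∃ (U' : Over S) (π : (yon S).obj U' ⟶ XV) (h' : U' ⟶ V), RepWith @Etale π ∧
      π ≫ β = (yon S).map h' ∧ GeometricallyConnected h'.left ∧
      ∀ x' ∈ (P i.1).covered a b, Points.map m x' ∈ Set.range (Points.ofPt π) := by
    intro i
    obtain ⟨ρ, h1, h2⟩ := H i.1 i.2
    exact exists_refined hg sq (P i.1) ρ h1 h2 hm sqm.w
  choose U π h hπ hπβ hconn hcov using H'
  obtain ⟨hfin, N, hN, hvN, hN'⟩ := usc_core sq (isClosedMap_toV huc sq) (isOpenMap_toV' hX hfl hfp hg sq) U π h hπβ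
    (fun i => by
      have := K609.Points.isOpenMap_ofPt (hπ i) _ isOpen_univ
      rwa [Set.image_univ] at this) hconn c hc sqk (by
      intro x hx
      obtain ⟨x', rfl⟩ := exists_pt sqm x _ hx
      obtain ⟨i, hi⟩ := Set.mem_iUnion.1 (hs (Set.mem_univ x'))
      obtain ⟨his, hi⟩ := Set.mem_iUnion.1 hi
      exact ⟨⟨i, his⟩, hcov ⟨i, his⟩ x' hi⟩)
  refine ⟨hfin, V, g, _, N, hg, ?_, hvN, hN, fun l _ c' hc' hl Xl a' b' sql => hN' l c' hc' hl Xl a' b' sql⟩
  refine (K609.Points.ofPt_yon_map_comp c g (IsLocalRing.closedPoint k.K)).symm.trans ?_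
  rw [hc]
  exact Points.ofPt_toHom k _

end K639.UscLocal
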