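import Groth.Agent.AlgSp.K639.LscCore
import Groth.Agent.AlgSp.K639.UscLocal
import Groth.Agent.AlgSp.K637.RelChow
import Groth.Agent.AlgSp.K627.PhProper
import Groth.Agent.AlgSp.K608.Comp
import Groth.Agent.AlgSt.K738.YonProps
import Groth.Agent.Flat2E.SteinSplit

/-!
# Lower semicontinuity of the number of geometric connected components: the local statement
-/

set_option autoImplicit false
set_option linter.dupNamespace false

universe u

open CategoryTheory CategoryTheory.Limits AlgebraicGeometry Opposite AlgSp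
open K639.Diag K639.Fib K639.Diag2 K639.Red K639.Semi K639.Usc K639.LscCore K639.Dim2 K639.UscLocal Groth.Agent
open Groth.Agent.Flat2E.ConnFibAt Groth.Agent.Flat2E.SteinSplit

namespace K639.Lsc

variable {S : Scheme.{u}} {X Y XV : Sp S}

/-- An étale neighbourhood over which a proper cover by a scheme splits. -/
theorem exists_split_nbhd {f : X ⟶ Y} (hX : IsAlgSpace X) (hY : IsAlgSpace Y) (hf : IsProperMor f) {k : FieldPt Y}
    (hk : k.IsGeometric) :
    ∃ (V : Over S) (g : (yon S).obj V ⟶ Y) (c : k.pt ⟶ V) (XV : Sp S) (α : XV ⟶ X) (β : XV ⟶ (yon S).obj V) (m : ℕ)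
      (Z : Fin m → Over S) (π : ∀ i, (yon S).obj (Z i) ⟶ XV) (h : ∀ i, Z i ⟶ V),
      RepWith @Etale g ∧ (yon S).map c ≫ g = k.toHom ∧ IsPullback α β f g ∧ (∀ i, π i ≫ β = (yon S).map (h i)) ∧
      (∀ i, IsClosed (Set.range (Points.ofPt (π i)))) ∧ (∀ x : Points XV, ∃ i, x ∈ Set.range (Points.ofPt (π i))) ∧
      (∀ i, ConnectedFibreAt (h i).left (c.left (IsLocalRing.closedPoint k.K))) := by
  have : IsAlgClosed k.K := hk
  obtain ⟨V₁, g₁, hg₁, hgs₁⟩ := hY.atlas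
  obtain ⟨v₁, hv₁⟩ := K609.Points.surjective_ofPt_of_repWith_surjective hgs₁ (Points.mk k)
  obtain ⟨V₀, i₀, v₀, hV₀, hi₀, rfl⟩ := exists_affine_open V₁ v₁
  obtain ⟨g₀, hg₀e, hg₀⟩ : ∃ g₀, g₀ = (yon S).map i₀ ≫ g₁ ∧ RepWith @Etale g₀ :=
    ⟨_, rfl, repWith_comp ((repWith_yon_map_iff @Etale i₀).2 inferInstance) hg₁⟩
  have hv₀ : Points.ofPt g₀ v₀ = Points.mk k := by
    rw [hg₀e, K609.Points.ofPt_yon_map_comp]
    exact hv₁
  obtain ⟨c₀, hc₀, hc₀v⟩ := K639.GeomLift.exists_lift_geom inferInstance hg₀ v₀ hv₀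
  obtain ⟨X₀, α₀, β₀, sq₀⟩ : ∃ (X₀ : Sp S) (α : X₀ ⟶ X) (β : X₀ ⟶ _), IsPullback α β f g₀ :=
    ⟨_, _, _, IsPullback.of_hasPullback _ _⟩
  have hX₀ : IsAlgSpace X₀ := K608.Comp.isAlgSpace_of_isPullback sq₀ hX (IsAlgSpace.yon_obj V₀) hY
  have hβ₀ : IsProperMor β₀ := K627.PhProper.isProperMor_of_isPullback hX hY (IsAlgSpace.yon_obj V₀) sq₀ hf
  obtain ⟨T, t, g', hgt, -, -, hg'p, hg's⟩ := K637.RelChow.exists_relChow hV₀ hX₀ β₀ hβ₀.1 hβ₀.2.1
  have ht : IsProper t.left := by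
    refine (K738.isProperMor_yon_iff t).1 ?_
    rw [← hgt]
    exact K627.PhProper.isProperMor_comp (IsAlgSpace.yon_obj T) hX₀ (IsAlgSpace.yon_obj V₀) hg'p hβ₀
  obtain ⟨S', e, s', X', fX, f', m, U, -, he, hes, hsq, hU⟩ := exists_splitting t.left v₀
  obtain ⟨l, hl1, hl2⟩ := Scheme.exists_fac_of_etale_of_isSepClosed e c₀.left s'
    (hes.trans (hc₀v.symm.trans (congrArg c₀.left (Subsingleton.elim (α := PrimeSpectrum k.K) _ _))))
  let V : Over S := Over.mk (e ≫ V₀.hom)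
  let ρ : V ⟶ V₀ := Over.homMk e rfl
  let c : k.pt ⟶ V := Over.homMk l (by
    change l ≫ e ≫ V₀.hom = _
    rw [← Category.assoc, hl1]
    exact Over.w c₀)
  have hcρ : c ≫ ρ = c₀ := Over.OverMorphism.ext hl1
  obtain ⟨g, hge, hg⟩ : ∃ g, g = (yon S).map ρ ≫ g₀ ∧ RepWith @Etale g :=
    ⟨_, rfl, repWith_comp ((repWith_yon_map_iff @Etale ρ).2 he) hg₀⟩
  have hc : (yon S).map c ≫ g = k.toHom := by
    rw [hge, ← Category.assoc, ← Functor.map_comp, hcρ, hc₀]
  obtain ⟨XV, α, β, sq⟩ : ∃ (XV : Sp S) (α : XV ⟶ X) (β : XV ⟶ _), IsPullback α β f g :=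
    ⟨_, _, _, IsPullback.of_hasPullback _ _⟩
  have hXV : IsAlgSpace XV := K608.Comp.isAlgSpace_of_isPullback sq hX (IsAlgSpace.yon_obj V) hY
  let T' : Over S := Over.mk (fX ≫ T.hom)
  let p₁ : T' ⟶ T := Over.homMk fX rfl
  let p₂ : T' ⟶ V := Over.homMk f' (by
    change f' ≫ e ≫ V₀.hom = fX ≫ T.hom
    rw [← Over.w t, ← Category.assoc, ← hsq.w, Category.assoc])
  have sqT : IsPullback p₁ p₂ t ρ := by
    refine IsPullback.of_map (Over.forget S) ?_ hsq
    exact Over.OverMorphism.ext hsq.w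
  subst hge
  obtain ⟨cT, mm, hcT1, hcT2, sqcT, -, -, -⟩ := exists_chart_baseChange sq₀ hgt ρ sq sqT
  have hcl : IsClosedMap (Points.map cT) := hg'p.2.2 hXV mm _ _ sqcT
  have hsurj : Function.Surjective (Points.ofPt cT) := by
    intro x
    obtain ⟨z, hz⟩ := hg's (Points.map mm x)
    obtain ⟨p, -, hp⟩ := K609.Points.exists_of_isPullback sqcT z x hz
    obtain ⟨w, rfl⟩ := K609.Points.ofScheme_surjective _ p
    exact ⟨w, by rw [Points.ofPt_eq_map_ofScheme, hp]⟩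
  have hrange : ∀ i, Set.range (Points.ofPt ((yon S).map (Over.homMk (U i).ι rfl : Over.mk ((U i).ι ≫ T'.hom) ⟶ T') ≫ cT)) =
      Points.ofPt cT '' (U i : Set X') := by
    intro i
    ext x
    constructor
    · rintro ⟨u, rfl⟩
      rw [K609.Points.ofPt_yon_map_comp]
      exact ⟨_, u.2, rfl⟩
    · rintro ⟨u, hu, rfl⟩
      exact ⟨(⟨u, hu⟩ : (U i)), K609.Points.ofPt_yon_map_comp
        (Over.homMk (U i).ι rfl : Over.mk ((U i).ι ≫ T'.hom) ⟶ T') cT _⟩
  have hUcl : ∀ i, IsClosed (U i : Set X') := by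
    intro i
    have : (U i : Set X') = (⋃ j : {j : Fin m // j ≠ i}, (U j.1 : Set X'))ᶜ := by
      ext x
      simp only [Set.mem_compl_iff, Set.mem_iUnion, not_exists]
      constructor
      · intro hx j hj
        exact (Set.disjoint_left.1 (by exact_mod_cast hU.disjoint j.1 i j.2)) hj hx
      · intro hx
        have h1 : x ∈ (⨆ i, U i : X'.Opens) := by rw [hU.iSup_eq]; trivial
        obtain ⟨j, hj⟩ := TopologicalSpace.Opens.mem_iSup.1 h1
        by_cases hji : j = i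
        · subst hji
          exact hj
        · exact absurd hj (hx ⟨j, hji⟩)
    rw [this]
    exact (isOpen_iUnion fun j : {j : Fin m // j ≠ i} => (U j.1).isOpen).isClosed_compl
  refine ⟨V, (yon S).map ρ ≫ g₀, c, XV, α, β, m, fun i => Over.mk ((U i).ι ≫ T'.hom),
    fun i => (yon S).map (Over.homMk (U i).ι rfl : Over.mk ((U i).ι ≫ T'.hom) ⟶ T') ≫ cT,
    fun i => (Over.homMk (U i).ι rfl : Over.mk ((U i).ι ≫ T'.hom) ⟶ T') ≫ p₂, hg, hc, sq, ?_, ?_, ?_, ?_⟩
  · intro i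
    rw [Category.assoc, hcT2, ← Functor.map_comp]
  · intro i
    rw [hrange]
    have h1 : Points.ofPt cT '' (U i : Set X') = Points.map cT '' (Points.schemeHomeo T' '' (U i : Set X')) := by
      rw [Set.image_image]
      refine Set.image_congr fun u _ => ?_
      exact Points.ofPt_eq_map_ofScheme cT u
    rw [h1]
    exact hcl _ ((Points.schemeHomeo T').isClosedMap _ (hUcl i))
  · intro x
    obtain ⟨w, rfl⟩ := hsurj x
    have h1 : (w : X') ∈ (⨆ i, U i : X'.Opens) := by rw [hU.iSup_eq]; trivial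
    obtain ⟨j, hj⟩ := TopologicalSpace.Opens.mem_iSup.1 h1
    refine ⟨j, ?_⟩
    rw [hrange]
    exact ⟨w, hj, rfl⟩
  · intro i
    have h1 : c.left (IsLocalRing.closedPoint k.K) = s' := 
      (congrArg l (Subsingleton.elim (α := PrimeSpectrum k.K) _ _)).trans hl2
    rw [h1]
    exact hU.conn i

/-- Lower semicontinuity in an étale neighbourhood. -/
theorem lsc_local {f : X ⟶ Y} (hX : IsAlgSpace X) (hY : IsAlgSpace Y) (hf : IsProperMor f) (hfl : LocP @Flat f)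
    (hfp : LocP @LocallyOfFinitePresentation f) {k : FieldPt Y}
    (hk : k.IsGeometric) {Xk : Sp S} {a : Xk ⟶ X} {b : Xk ⟶ (yon S).obj k.pt} (sqk : IsPullback a b f k.toHom) :
    ∃ (V : Over S) (g : (yon S).obj V ⟶ Y) (v₀ : V.left) (N : Set V.left), RepWith @Etale g ∧
        Points.ofPt g v₀ = Points.mk k ∧ v₀ ∈ N ∧ IsOpen N ∧
        ∀ (l : FieldPt Y), l.IsGeometric → ∀ (c : l.pt ⟶ V), (yon S).map c ≫ g = l.toHom →
          c.left (IsLocalRing.closedPoint l.K) ∈ N → ∀ (Xl : Sp S) (a' : Xl ⟶ X) (b' : Xl ⟶ (yon S).obj l.pt),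
          IsPullback a' b' f l.toHom → ENat.card (ConnectedComponents (Points Xk)) ≤
            ENat.card (ConnectedComponents (Points Xl)) := by
  obtain ⟨V, g, c, XV, α, β, m, Z, π, h, hg, hc, sq, hπ, hZc, hcov, hconn⟩ := exists_split_nbhd hX hY hf hk
  obtain ⟨N, hN, hvN, hN'⟩ := lsc_core sq (isClosedMap_toV hf.2.2 sq) (isOpenMap_toV' hX hfl hfp hg sq) Z π h hπ hZc
    hcov c hc hconn sqk
  refine ⟨V, g, _, N, hg, ?_, hvN, hN, fun l _ c' hc' hl Xl a' b' sql => hN' l c' hc' hl Xl a' b' sql⟩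
  refine (K609.Points.ofPt_yon_map_comp c g (IsLocalRing.closedPoint k.K)).symm.trans ?_
  rw [hc]
  exact Points.ofPt_toHom k _

end K639.Lsc
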