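import Groth.Agent.AlgSp.K639.Usc
import Groth.Agent.Flat2E.ConnFibAt

/-!
# Lower semicontinuity of the number of geometric connected components: the counting argument
-/

set_option autoImplicit false

universe u

open CategoryTheory CategoryTheory.Limits AlgebraicGeometry Opposite AlgSp
open K639.Diag K639.Fib K639.Diag2 K639.Red K639.Semi K639.Usc Groth.Agent Groth.Agent.Flat2E.ConnFibAt

namespace K639.LscCore

variable {S : Scheme.{u}} {X Y XV : Sp S}
variable {f : X ⟶ Y} {V : Over S} {g : (yon S).obj V ⟶ Y} {α : XV ⟶ X} {β : XV ⟶ (yon S).obj V}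

/-- Lower semicontinuity from a finite cover by closed pieces with connected geometric fibres over the
given point. -/
theorem lsc_core (sq : IsPullback α β f g) (hcl : IsClosedMap (toV β)) (hop : IsOpenMap (toV β)) {ι : Type*} [Finite ι]
    (Z : ι → Over S) (π : ∀ i, (yon S).obj (Z i) ⟶ XV) (h : ∀ i, Z i ⟶ V) (hπ : ∀ i, π i ≫ β = (yon S).map (h i))
    (hZc : ∀ i, IsClosed (Set.range (Points.ofPt (π i))))
    (hcov : ∀ x : Points XV, ∃ i, x ∈ Set.range (Points.ofPt (π i)))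
    {k : FieldPt Y} (c : k.pt ⟶ V) (hc : (yon S).map c ≫ g = k.toHom)
    (hconn : ∀ i, ConnectedFibreAt (h i).left (c.left (IsLocalRing.closedPoint k.K)))
    {Xk : Sp S} {a : Xk ⟶ X} {b : Xk ⟶ (yon S).obj k.pt} (sqk : IsPullback a b f k.toHom) :
    ∃ N : Set V.left, IsOpen N ∧
      c.left (IsLocalRing.closedPoint k.K) ∈ N ∧
      ∀ (l : FieldPt Y) (c' : l.pt ⟶ V), (yon S).map c' ≫ g = l.toHom →
          c'.left (IsLocalRing.closedPoint l.K) ∈ N → ∀ (Xl : Sp S) (a' : Xl ⟶ X) (b' : Xl ⟶ (yon S).obj l.pt),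
          IsPullback a' b' f l.toHom → ENat.card (ConnectedComponents (Points Xk)) ≤
            ENat.card (ConnectedComponents (Points Xl)) := by
  let v₀ : V.left := c.left (IsLocalRing.closedPoint k.K)
  let A : ι → Set (Points XV) := fun i => Set.range (Points.ofPt (π i))
  let r : ι → ι → Prop := fun i j => ∃ x, toV β x = v₀ ∧ x ∈ A i ∩ A j
  let N₁ : Set V.left := ⋂ (p : {p : ι × ι // ¬ r p.1 p.2}), (toV β '' (A p.1.1 ∩ A p.1.2))ᶜ
  let W : Quot r → Set (Points XV) := fun q => toV β ⁻¹' N₁ ∩ ⋂ (i : {i : ι // Quot.mk r i ≠ q}), (A i.1)ᶜ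
  let N : Set V.left := N₁ ∩ ⋂ q, toV β '' (W q)
  have hN₁ : IsOpen N₁ :=
    isOpen_iInter_of_finite fun p => (hcl _ ((hZc _).inter (hZc _))).isOpen_compl
  have hW : ∀ q, IsOpen (W q) := fun q =>
    (hN₁.preimage (continuous_toV β)).inter (isOpen_iInter_of_finite fun i => (hZc _).isOpen_compl)
  have hN : IsOpen N := hN₁.inter (isOpen_iInter_of_finite fun q => hop _ (hW q))
  have : Subsingleton ↥k.pt.left := inferInstanceAs (Subsingleton (PrimeSpectrum k.K))
  obtain ⟨m, -, sqm⟩ := exists_toXV sq c hc sqk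
  have hB : ∀ i, IsConnected (Points.map m ⁻¹' A i) := fun i =>
    isConnected_preimage sqm (hπ i) (hconn i k.K c.left _ _ _ (IsPullback.of_hasPullback _ _) rfl)
  have hv₀ : v₀ ∈ N₁ := by
    refine Set.mem_iInter.2 fun p => ?_
    rintro ⟨x, hx, e⟩
    exact p.2 ⟨x, e, hx⟩
  have hvN : v₀ ∈ N := by
    refine ⟨hv₀, Set.mem_iInter.2 fun q => ?_⟩
    obtain ⟨i, rfl⟩ := Quot.exists_rep q
    obtain ⟨x', hx'⟩ := (hB i).nonempty
    have hx : toV β (Points.map m x') = v₀ := toV_map sqm x' (IsLocalRing.closedPoint k.K)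
    refine ⟨Points.map m x', ⟨?_, Set.mem_iInter.2 fun j hj => ?_⟩, hx⟩
    · rw [Set.mem_preimage, hx]
      exact hv₀
    · exact j.2 (Quot.sound ⟨Points.map m x', hx, hj, hx'⟩)
  -- the upper bound at `k`
  have hup : ENat.card (ConnectedComponents (Points Xk)) ≤ ENat.card (Quot r) := by
    refine CompTop.card_le (fun i => Points.map m ⁻¹' A i) (fun i => (hB i).isPreconnected) (fun i => (hB i).nonempty)
      (fun x' => hcov _) r ?_
    rintro i j ⟨x, e, hx⟩
    obtain ⟨x', rfl⟩ := exists_pt sqm x _ e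
    exact ⟨x', hx.1, hx.2⟩
  refine ⟨N, hN, hvN, fun l c' hc' hl Xl a' b' sql => hup.trans ?_⟩
  -- the lower bound over `N`
  have : Subsingleton ↥l.pt.left := inferInstanceAs (Subsingleton (PrimeSpectrum l.K))
  obtain ⟨m', -, sqm'⟩ := exists_toXV sq c' hc' sql
  refine CompTop.le_card (fun i => Points.map m' ⁻¹' A i) (Or.inr fun i => (hZc i).preimage (Points.continuous_map m'))
    (fun x' => hcov _) r ?_ ?_
  · intro q
    obtain ⟨x, hx, e⟩ := Set.mem_iInter.1 hl.2 q
    obtain ⟨x', rfl⟩ := exists_pt sqm' x _ e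
    obtain ⟨i, hi⟩ := hcov (Points.map m' x')
    refine ⟨i, ?_, x', hi⟩
    by_contra hq
    exact Set.mem_iInter.1 hx.2 ⟨i, hq⟩ hi
  · rintro i j ⟨x', h1, h2⟩
    by_contra hr
    refine Set.mem_iInter.1 hl.1 ⟨(i, j), hr⟩ ⟨Points.map m' x', ⟨h1, h2⟩, ?_⟩
    exact toV_map sqm' x' (IsLocalRing.closedPoint l.K)

end K639.LscCore
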