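import Groth.Agent.AlgSp.K639.Usc

/-!
# Pieces with geometrically connected fibres and their refinements
-/

set_option autoImplicit false
set_option linter.dupNamespace false

universe u

open CategoryTheory CategoryTheory.Limits AlgebraicGeometry Opposite AlgSp
open K639.Diag K639.Fib K639.Diag2 K639.Red K639.Semi K639.Usc Groth.Agent

namespace K639.Piece

section scheme

/-- Factorization of a geometric point through an étale part of the target. -/
theorem exists_geom_factor {K : Type u} [Field K] [IsSepClosed K] {U₀ V₀ X' S' : Scheme.{u}} (h₀ : U₀ ⟶ V₀)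
    (c₀ : Spec (CommRingCat.of K) ⟶ V₀) (a : X' ⟶ U₀) (b : X' ⟶ S') (cS : S' ⟶ V₀) [Etale cS]
    (w : a ≫ h₀ = b ≫ cS) (x : ↥(pullback h₀ c₀)) (u : X') (hu : a u = pullback.fst h₀ c₀ x) :
    ∃ (c' : Spec (CommRingCat.of K) ⟶ S') (hc' : c' ≫ cS = c₀) (x₂ : ↥(pullback b c')),
      (pullback.lift (pullback.fst b c' ≫ a) (pullback.snd b c') (by
        rw [Category.assoc, w, ← Category.assoc, pullback.condition, Category.assoc, hc']) : pullback b c' ⟶ pullback h₀ c₀) x₂ = x := by
  -- `P = X' ×_{V₀} Spec K`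
  let P := pullback (a ≫ h₀) c₀
  let q : P ⟶ pullback h₀ c₀ := pullback.lift (pullback.fst _ _ ≫ a) (pullback.snd _ _) (by
    rw [Category.assoc]; exact pullback.condition)
  have sqP : IsPullback (pullback.fst (a ≫ h₀) c₀) q a (pullback.fst h₀ c₀) := by
    refine IsPullback.of_bot (v₂₁ := pullback.snd h₀ c₀) (v₂₂ := h₀) (h₃₁ := c₀) ?_ (pullback.lift_fst _ _ _).symm
      (IsPullback.of_hasPullback h₀ c₀)
    rw [pullback.lift_snd]
    exact IsPullback.of_hasPullback _ _
  obtain ⟨w₁, hw₁, hw₁'⟩ := Scheme.exists_preimage_of_isPullback sqP u x hu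
  -- `S'_k`
  have wP : (pullback.fst (a ≫ h₀) c₀ ≫ b) ≫ cS = pullback.snd (a ≫ h₀) c₀ ≫ c₀ := by
    rw [Category.assoc, ← w, pullback.condition]
  let e : P ⟶ pullback cS c₀ := pullback.lift (pullback.fst _ _ ≫ b) (pullback.snd _ _) wP
  obtain ⟨l, hl1, hl2⟩ := Scheme.exists_fac_of_etale_of_isSepClosed (pullback.snd cS c₀)
    (𝟙 (Spec (CommRingCat.of K))) (e w₁) (Subsingleton.elim (α := PrimeSpectrum K) _ _)
  have hc' : (l ≫ pullback.fst cS c₀) ≫ cS = c₀ := by
    rw [Category.assoc, pullback.condition, ← Category.assoc, hl1]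
    exact Category.id_comp _
  refine ⟨l ≫ pullback.fst cS c₀, hc', ?_⟩
  let Q := pullback b (l ≫ pullback.fst cS c₀)
  let r : Q ⟶ P := pullback.lift (pullback.fst _ _) (pullback.snd _ _) (by
    rw [w, ← Category.assoc, pullback.condition, Category.assoc, hc'])
  have sqe : IsPullback (pullback.fst (a ≫ h₀) c₀) e b (pullback.fst cS c₀) := by
    refine IsPullback.of_bot (v₂₁ := pullback.snd cS c₀) (v₂₂ := cS) (h₃₁ := c₀) ?_ (pullback.lift_fst _ _ _).symm
      (IsPullback.of_hasPullback cS c₀)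
    rw [pullback.lift_snd, ← w]
    exact IsPullback.of_hasPullback _ _
  have hre : r ≫ e = pullback.snd b (l ≫ pullback.fst cS c₀) ≫ l := by
    apply pullback.hom_ext
    · rw [Category.assoc, pullback.lift_fst, ← Category.assoc, pullback.lift_fst, pullback.condition, Category.assoc]
    · rw [Category.assoc, pullback.lift_snd, pullback.lift_snd, Category.assoc, hl1]
      exact (Category.comp_id _).symm
  have sqr : IsPullback r (pullback.snd b (l ≫ pullback.fst cS c₀)) e l := by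
    refine IsPullback.of_right (h₁₂ := pullback.fst (a ≫ h₀) c₀) (v₁₃ := b) (h₂₂ := pullback.fst cS c₀) ?_ hre sqe
    rw [pullback.lift_fst]
    exact IsPullback.of_hasPullback _ _
  obtain ⟨x₂, hx₂, -⟩ := Scheme.exists_preimage_of_isPullback sqr w₁ default hl2.symm
  have hcomp : pullback.lift (pullback.fst b (l ≫ pullback.fst cS c₀) ≫ a) (pullback.snd b (l ≫ pullback.fst cS c₀)) (by
        rw [Category.assoc, w, ← Category.assoc, pullback.condition, Category.assoc, hc']) = r ≫ q := by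
    apply pullback.hom_ext
    · rw [pullback.lift_fst, Category.assoc, pullback.lift_fst, ← Category.assoc, pullback.lift_fst]
    · rw [pullback.lift_snd, Category.assoc, pullback.lift_snd, pullback.lift_snd]
  refine ⟨x₂, ?_⟩
  rw [← hw₁', ← hx₂, ← Scheme.Hom.comp_apply, hcomp]

end scheme

variable {S : Scheme.{u}} {X Y XV : Sp S}

/-- A piece of `X` near the geometric point `k` of `Y`. -/
structure Piece (f : X ⟶ Y) (k : FieldPt Y) where
  V : Over S
  g : (yon S).obj V ⟶ Y
  U : Over S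
  a : (yon S).obj U ⟶ X
  h : U ⟶ V
  c : k.pt ⟶ V
  hg : RepWith @Etale g
  ha : RepWith @Etale a
  hc : (yon S).map c ≫ g = k.toHom
  w : a ≫ f = (yon S).map h ≫ g
  conn : GeometricallyConnected h.left

/-- The part of the geometric fibre covered by a piece. -/
def Piece.covered {f : X ⟶ Y} {k : FieldPt Y} (p : Piece f k) {Xk : Sp S} (ak : Xk ⟶ X) (bk : Xk ⟶ (yon S).obj k.pt) :
    Set (Points Xk) :=
  {x | ∃ (T : Over S) (ρ : (yon S).obj T ⟶ Xk) (p₁ : T ⟶ p.U) (p₂ : T ⟶ k.pt) (t : T.left),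
    ρ ≫ ak = (yon S).map p₁ ≫ p.a ∧ ρ ≫ bk = (yon S).map p₂ ∧ p₁ ≫ p.h = p₂ ≫ p.c ∧ Points.ofPt ρ t = x}

theorem Piece.isOpen_covered {f : X ⟶ Y} {k : FieldPt Y} (p : Piece f k) {Xk : Sp S} {ak : Xk ⟶ X}
    {bk : Xk ⟶ (yon S).obj k.pt} (sqk : IsPullback ak bk f k.toHom) : IsOpen (p.covered ak bk) := by
  obtain ⟨XV, α, β, sq⟩ : ∃ (XV : Sp S) (α : XV ⟶ X) (β : XV ⟶ _), IsPullback α β f p.g :=
    ⟨_, _, _, IsPullback.of_hasPullback _ _⟩
  obtain ⟨π, hπ, hπα, hπβ⟩ := exists_etale_to_baseChange p.ha p.hg p.w sq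
  have sqU : IsPullback (Over.homMk (U := Over.mk (pullback.fst p.h.left p.c.left ≫ p.U.hom)) (pullback.fst p.h.left p.c.left) rfl)
      (Over.homMk (pullback.snd p.h.left p.c.left) (by
        change pullback.snd p.h.left p.c.left ≫ k.pt.hom = pullback.fst p.h.left p.c.left ≫ p.U.hom
        rw [← Over.w p.c, ← Over.w p.h, ← Category.assoc, ← Category.assoc, pullback.condition]) :
        Over.mk (pullback.fst p.h.left p.c.left ≫ p.U.hom) ⟶ k.pt) p.h p.c := by
    refine IsPullback.of_map (Over.forget S) ?_ ?_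
    · exact Over.OverMorphism.ext pullback.condition
    · exact IsPullback.of_hasPullback p.h.left p.c.left
  have sqk' : IsPullback ak bk f ((yon S).map p.c ≫ p.g) := by rw [p.hc]; exact sqk
  obtain ⟨ρ₀, m, hρ1, hρ2, sqρ, hmα, hmβ, -⟩ := exists_chart_baseChange sq hπβ p.c sqk' sqU
  have hρ : RepWith @Etale ρ₀ := repWith_of_isPullback sqρ hπ
  have hset : p.covered ak bk = Set.range (Points.ofPt ρ₀) := by
    ext x
    constructor
    · rintro ⟨T, ρ, p₁, p₂, t, h1, h2, h3, rfl⟩
      have h4 : (yon S).map (sqU.lift p₁ p₂ h3) ≫ ρ₀ = ρ := by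
        apply sqk'.hom_ext
        · rw [Category.assoc, hρ1, ← Category.assoc, ← Functor.map_comp, sqU.lift_fst, hπα, h1]
        · rw [Category.assoc, hρ2, ← Functor.map_comp, sqU.lift_snd, h2]
      rw [← h4, K609.Points.ofPt_yon_map_comp]
      exact ⟨_, rfl⟩
    · rintro ⟨t, rfl⟩
      exact ⟨_, ρ₀, _, _, t, by rw [hρ1, hπα], hρ2, sqU.w, rfl⟩
  rw [hset]
  have := K609.Points.isOpenMap_ofPt hρ _ isOpen_univ
  rwa [Set.image_univ] at this

/-- Finitely many pieces live over a common étale neighbourhood. -/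
theorem exists_refinement {f : X ⟶ Y} (hY : IsAlgSpace Y) {k : FieldPt Y} (hk : k.IsGeometric) {ι : Type*}
    (P : ι → Piece f k) (s : Finset ι) :
    ∃ (V : Over S) (g : (yon S).obj V ⟶ Y) (c : k.pt ⟶ V), RepWith @Etale g ∧ (yon S).map c ≫ g = k.toHom ∧
      ∀ i ∈ s, ∃ ρ : V ⟶ (P i).V, (yon S).map ρ ≫ (P i).g = g ∧ c ≫ ρ = (P i).c := by
  classical
  induction s using Finset.induction_on with
  | empty =>
    have : IsAlgClosed k.K := hk
    obtain ⟨V, g, hg, hgs⟩ := hY.atlas
    obtain ⟨v, hv⟩ := K609.Points.surjective_ofPt_of_repWith_surjective hgs (Points.mk k)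
    obtain ⟨c, hc, -⟩ := K639.GeomLift.exists_lift_geom inferInstance hg v hv
    exact ⟨V, g, c, hg, hc, by simp⟩
  | insert i s hi ih =>
    obtain ⟨V, g, c, hg, hc, H⟩ := ih
    obtain ⟨R, p, q, sq, hq⟩ := exists_pullback hg (P i).g
    have hp : Etale p.left := (P i).hg.2 g _ _ sq.flip
    obtain ⟨c', hc'⟩ := (yon S).map_surjective (sq.lift ((yon S).map c) ((yon S).map (P i).c) (by rw [hc, (P i).hc]))
    have h1 : c' ≫ p = c := (yon S).map_injective (by rw [Functor.map_comp, hc', sq.lift_fst])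
    have h2 : c' ≫ q = (P i).c := (yon S).map_injective (by rw [Functor.map_comp, hc', sq.lift_snd])
    refine ⟨R, (yon S).map p ≫ g, c', repWith_comp ((repWith_yon_map_iff @Etale p).2 hp) hg, ?_, ?_⟩
    · rw [← Category.assoc, ← Functor.map_comp, h1, hc]
    · intro j hj
      rcases Finset.mem_insert.1 hj with rfl | hj
      · exact ⟨q, sq.w.symm, h2⟩
      · obtain ⟨ρ, h3, h4⟩ := H j hj
        exact ⟨p ≫ ρ, by rw [Functor.map_comp, Category.assoc, h3], by rw [← Category.assoc, h1, h4]⟩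

end K639.Piece
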