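import Groth.Agent.AlgSp.K639.Red
import Groth.Agent.AlgSp.K639.GeomLift
import Groth.Agent.AlgSp.K639.CompTop
import Groth.Agent.AlgSp.K638.GeomConn
import Groth.Agent.AlgSp.K609.Points
import Mathlib.FieldTheory.IsAlgClosed.AlgebraicClosure

/-!
# The number of geometric connected components: passage to étale neighbourhoods
-/

set_option autoImplicit false

universe u

open CategoryTheory CategoryTheory.Limits AlgebraicGeometry Opposite AlgSp
open K639.Diag K639.Fib K639.Diag2 K639.Red Groth.Agent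

namespace K639.Semi

variable {S : Scheme.{u}} {F X Y XV XT : Sp S}

/-- The number of connected components of a geometric fibre only depends on the point. -/
theorem card_eq_of_mk_eq {f : X ⟶ Y} {k l : FieldPt Y} (hk : k.IsGeometric) (hl : l.IsGeometric)
    (e : Points.mk k = Points.mk l) {Xk : Sp S} {a : Xk ⟶ X} {b : Xk ⟶ (yon S).obj k.pt} (sqk : IsPullback a b f k.toHom)
    {Xl : Sp S} {a' : Xl ⟶ X} {b' : Xl ⟶ (yon S).obj l.pt} (sql : IsPullback a' b' f l.toHom) :
    ENat.card (ConnectedComponents (Points Xk)) = ENat.card (ConnectedComponents (Points Xl)) := by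
  obtain ⟨Ω, _, w, i, j, hij⟩ := exists_common_ext e
  have : IsAlgClosed k.K := hk
  have : IsAlgClosed l.K := hl
  have s1 : IsPullback (pullback.fst b ((yon S).map i)) (pullback.snd b ((yon S).map i)) b ((yon S).map i) :=
    IsPullback.of_hasPullback _ _
  have t1 := s1.paste_horiz sqk
  rw [hij] at t1
  have w0 : (pullback.fst b ((yon S).map i) ≫ a) ≫ f = (pullback.snd b ((yon S).map i) ≫ (yon S).map j) ≫ l.toHom := by
    rw [t1.w, Category.assoc]
  have s2 : IsPullback (sql.lift _ _ w0) (pullback.snd b ((yon S).map i)) b' ((yon S).map j) :=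
    IsPullback.of_right (by rw [sql.lift_fst]; exact t1) (sql.lift_snd _ _ _) sql
  rw [← K638.GeomConn.card_eq i s1, ← K638.GeomConn.card_eq j s2]

/-- Every point of a sheaf is the class of a geometric point. -/
theorem exists_geometric (y : Points Y) : ∃ k : FieldPt Y, k.IsGeometric ∧ Points.mk k = y := by
  obtain ⟨k, rfl⟩ := Points.mk_surjective y
  exact ⟨extPt k (algebraMap k.K (AlgebraicClosure k.K)), inferInstanceAs (IsAlgClosed (AlgebraicClosure k.K)),
    mk_extPt k _⟩

/-- Openness of a condition on the geometric fibres from étale neighbourhoods. -/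
theorem isOpen_of_local {f : X ⟶ Y} (P : ℕ∞ → Prop)
    (H : ∀ (k : FieldPt Y), k.IsGeometric → ∀ (Xk : Sp S) (a : Xk ⟶ X) (b : Xk ⟶ (yon S).obj k.pt),
      IsPullback a b f k.toHom → P (ENat.card (ConnectedComponents (Points Xk))) →
      ∃ (V : Over S) (g : (yon S).obj V ⟶ Y) (v₀ : V.left) (N : Set V.left), RepWith @Etale g ∧
        Points.ofPt g v₀ = Points.mk k ∧ v₀ ∈ N ∧ IsOpen N ∧
        ∀ (l : FieldPt Y), l.IsGeometric → ∀ (c : l.pt ⟶ V), (yon S).map c ≫ g = l.toHom →
          c.left (IsLocalRing.closedPoint l.K) ∈ N → ∀ (Xl : Sp S) (a' : Xl ⟶ X) (b' : Xl ⟶ (yon S).obj l.pt),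
          IsPullback a' b' f l.toHom → P (ENat.card (ConnectedComponents (Points Xl)))) :
    IsOpen {y : Points Y | ∀ (k : FieldPt Y), Points.mk k = y → k.IsGeometric →
      ∀ (Xk : Sp S) (a : Xk ⟶ X) (b : Xk ⟶ (yon S).obj k.pt), IsPullback a b f k.toHom →
        P (ENat.card (ConnectedComponents (Points Xk)))} := by
  rw [isOpen_iff_forall_mem_open]
  intro y hy
  obtain ⟨k, hk, rfl⟩ := exists_geometric y
  obtain ⟨Xk, a, b, sqk⟩ : ∃ (Xk : Sp S) (a : Xk ⟶ X) (b : Xk ⟶ _), IsPullback a b f k.toHom :=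
    ⟨_, _, _, IsPullback.of_hasPullback _ _⟩
  obtain ⟨V, g, v₀, N, hg, hv₀, hvN, hN, hl⟩ := H k hk Xk a b sqk (hy k rfl hk Xk a b sqk)
  refine ⟨Points.ofPt g '' N, ?_, K609.Points.isOpenMap_ofPt hg _ hN, ⟨v₀, hvN, hv₀⟩⟩
  rintro _ ⟨v, hv, rfl⟩ l hlv hlg Xl a' b' sql
  have : IsAlgClosed l.K := hlg
  obtain ⟨c, hc1, hc2⟩ := K639.GeomLift.exists_lift_geom inferInstance hg v hlv.symm
  exact hl l hlg c hc1 (by rw [hc2]; exact hv) Xl a' b' sql

section pieces

variable {f : X ⟶ Y} {V : Over S} {g : (yon S).obj V ⟶ Y} {α : XV ⟶ X} {β : XV ⟶ (yon S).obj V}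

/-- The map from the points of `X ×_Y V` to `V`. -/
noncomputable def toV (β : XV ⟶ (yon S).obj V) (x : Points XV) : V.left :=
  (Points.schemeHomeo V).symm (Points.map β x)

theorem toV_eq_iff (β : XV ⟶ (yon S).obj V) (x : Points XV) (v : V.left) :
    toV β x = v ↔ Points.map β x = Points.ofScheme V v :=
  (Points.schemeHomeo V).symm_apply_eq

theorem continuous_toV (β : XV ⟶ (yon S).obj V) : Continuous (toV β) :=
  (Points.schemeHomeo V).symm.continuous.comp (Points.continuous_map β)

theorem toV_ofPt {U : Over S} {c : (yon S).obj U ⟶ XV} {h : U ⟶ V} (hch : c ≫ β = (yon S).map h) (u : U.left) :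
    toV β (Points.ofPt c u) = h.left u := by
  rw [toV_eq_iff, Points.map_ofPt, hch, K609.Points.ofPt_yon_map]

theorem isClosedMap_toV (hf : IsUnivClosedMor f) (sq : IsPullback α β f g) : IsClosedMap (toV β) :=
  (Points.schemeHomeo V).symm.isClosedMap.comp (hf (IsAlgSpace.yon_obj V) g α β sq)

theorem isOpenMap_toV {U : Over S} {c : (yon S).obj U ⟶ XV} (hcs : RepWith @Surjective c) {h : U ⟶ V}
    (hch : c ≫ β = (yon S).map h) (hh : IsOpenMap h.left) : IsOpenMap (toV β) := by
  intro W hW
  have : toV β '' W = h.left '' (Points.ofPt c ⁻¹' W) := by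
    ext v
    constructor
    · rintro ⟨x, hx, rfl⟩
      obtain ⟨u, rfl⟩ := K609.Points.surjective_ofPt_of_repWith_surjective hcs x
      exact ⟨u, hx, (toV_ofPt hch u).symm⟩
    · rintro ⟨u, hu, rfl⟩
      exact ⟨_, hu, toV_ofPt hch u⟩
  rw [this]
  exact hh _ (hW.preimage (Points.continuous_ofPt c))

/-- The comparison of a fibre with the base change to an étale neighbourhood. -/
theorem exists_toXV (sq : IsPullback α β f g) {T : Over S} {t : (yon S).obj T ⟶ Y} (c : T ⟶ V)
    (hc : (yon S).map c ≫ g = t)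
    {Xl : Sp S} {a : Xl ⟶ X} {b : Xl ⟶ (yon S).obj T} (sql : IsPullback a b f t) :
    ∃ m : Xl ⟶ XV, m ≫ α = a ∧ IsPullback m b β ((yon S).map c) := by
  have w : a ≫ f = (b ≫ (yon S).map c) ≫ g := by rw [sql.w, Category.assoc, hc]
  refine ⟨sq.lift _ _ w, sq.lift_fst _ _ _, IsPullback.of_right (h₁₂ := α) (v₁₃ := f) (h₂₂ := g) ?_ (sq.lift_snd _ _ _) sq⟩
  rw [sq.lift_fst, hc]
  exact sql

/-- The points of a fibre. -/
theorem exists_pt {T : Over S} {c : T ⟶ V} {Xl : Sp S} {m : Xl ⟶ XV} {b : Xl ⟶ (yon S).obj T}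
    (sqm : IsPullback m b β ((yon S).map c)) (x : Points XV) (t : T.left) (hx : toV β x = c.left t) :
    ∃ x' : Points Xl, Points.map m x' = x := by
  obtain ⟨p, hp, -⟩ := K609.Points.exists_of_isPullback sqm x (Points.ofScheme T t) (by
    rw [K609.Points.map_yon_map_ofScheme]
    exact (toV_eq_iff β x _).1 hx)
  exact ⟨p, hp⟩

theorem toV_map {T : Over S} [Subsingleton T.left] {c : T ⟶ V} {Xl : Sp S} {m : Xl ⟶ XV} {b : Xl ⟶ (yon S).obj T}
    (sqm : IsPullback m b β ((yon S).map c)) (x' : Points Xl) (t : T.left) : toV β (Points.map m x') = c.left t := by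
  rw [toV_eq_iff, ← Points.map_comp, sqm.w, Points.map_comp]
  obtain ⟨t', ht'⟩ := K609.Points.ofScheme_surjective T (Points.map b x')
  rw [← ht', K609.Points.map_yon_map_ofScheme, Subsingleton.elim t' t]

/-- The part of a fibre covered by a piece is connected if the fibre of the piece is. -/
theorem isConnected_preimage {T : Over S} {c : T ⟶ V} {Xl : Sp S} {m : Xl ⟶ XV} {b : Xl ⟶ (yon S).obj T}
    (sqm : IsPullback m b β ((yon S).map c)) {U : Over S} {π : (yon S).obj U ⟶ XV} {h : U ⟶ V}
    (hπ : π ≫ β = (yon S).map h) (hconn : ConnectedSpace ↥(pullback h.left c.left)) :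
    IsConnected (Points.map m ⁻¹' Set.range (Points.ofPt π)) := by
  have sqU : IsPullback (Over.homMk (U := Over.mk (pullback.fst h.left c.left ≫ U.hom)) (pullback.fst h.left c.left) rfl)
      (Over.homMk (pullback.snd h.left c.left) (by
        change pullback.snd h.left c.left ≫ T.hom = pullback.fst h.left c.left ≫ U.hom
        rw [← Over.w c, ← Over.w h, ← Category.assoc, ← Category.assoc, pullback.condition]) :
        Over.mk (pullback.fst h.left c.left ≫ U.hom) ⟶ T) h c := by
    refine IsPullback.of_map (Over.forget S) ?_ ?_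
    · exact Over.OverMorphism.ext pullback.condition
    · exact IsPullback.of_hasPullback h.left c.left
  have hbig : IsPullback ((yon S).map (Over.homMk (U := Over.mk (pullback.fst h.left c.left ≫ U.hom))
      (pullback.fst h.left c.left) rfl)) ((yon S).map (Over.homMk (pullback.snd h.left c.left) (by
        change pullback.snd h.left c.left ≫ T.hom = pullback.fst h.left c.left ≫ U.hom
        rw [← Over.w c, ← Over.w h, ← Category.assoc, ← Category.assoc, pullback.condition]) :
        Over.mk (pullback.fst h.left c.left ≫ U.hom) ⟶ T)) (π ≫ β) ((yon S).map c) := by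
    rw [hπ]
    exact sqU.map (yon S)
  obtain ⟨ρ, hρ⟩ : ∃ ρ : (yon S).obj (Over.mk (pullback.fst h.left c.left ≫ U.hom)) ⟶ Xl,
      ρ ≫ m = (yon S).map (Over.homMk (U := Over.mk (pullback.fst h.left c.left ≫ U.hom))
      (pullback.fst h.left c.left) rfl) ≫ π ∧ IsPullback ((yon S).map (Over.homMk
        (U := Over.mk (pullback.fst h.left c.left ≫ U.hom)) (pullback.fst h.left c.left) rfl)) ρ π m := by
    refine ⟨sqm.lift _ _ ((Category.assoc _ _ _).trans hbig.w), sqm.lift_fst _ _ _, ?_⟩
    refine IsPullback.of_bot (v₂₁ := b) (v₂₂ := β) (h₃₁ := (yon S).map c) ?_ (sqm.lift_fst _ _ _).symm sqm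
    rw [sqm.lift_snd]
    exact hbig
  have hset : Points.map m ⁻¹' Set.range (Points.ofPt π) = Set.range (Points.ofPt ρ) := by
    ext x
    constructor
    · rintro ⟨u, hu⟩
      obtain ⟨p, hp1, hp2⟩ := K609.Points.exists_of_isPullback hρ.2 (Points.ofScheme U u) x (by
        rw [← Points.ofPt_eq_map_ofScheme, hu])
      obtain ⟨w, rfl⟩ := K609.Points.ofScheme_surjective _ p
      exact ⟨w, by rw [Points.ofPt_eq_map_ofScheme, hp2]⟩
    · rintro ⟨w, rfl⟩
      refine ⟨(Over.homMk (U := Over.mk (pullback.fst h.left c.left ≫ U.hom)) (pullback.fst h.left c.left) rfl :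
        _ ⟶ U).left w, ?_⟩
      rw [Points.map_ofPt, hρ.1, K609.Points.ofPt_yon_map_comp]
  rw [hset]
  have : ConnectedSpace ↥(Over.mk (pullback.fst h.left c.left ≫ U.hom)).left := hconn
  exact isConnected_range (Points.continuous_ofPt ρ)

end pieces

end K639.Semi
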