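import Groth.Agent.AlgSp.K639.Semi

/-!
# Upper semicontinuity of the number of geometric connected components: the counting argument
-/

set_option autoImplicit false

universe u

open CategoryTheory CategoryTheory.Limits AlgebraicGeometry Opposite AlgSp
open K639.Diag K639.Fib K639.Diag2 K639.Red K639.Semi Groth.Agent

namespace K639.Usc

variable {S : Scheme.{u}} {X Y XV : Sp S}
variable {f : X ⟶ Y} {V : Over S} {g : (yon S).obj V ⟶ Y} {α : XV ⟶ X} {β : XV ⟶ (yon S).obj V}

theorem connectedSpace_pullback {U V : Scheme.{u}} (h : U ⟶ V) [GeometricallyConnected h] {K : Type u} [Field K]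
    (t : Spec (CommRingCat.of K) ⟶ V) : ConnectedSpace ↥(pullback h t) := by
  have h1 : GeometricallyConnected (pullback.snd h t) := inferInstance
  exact GeometricallyConnected.geometrically_connectedSpace (f := pullback.snd h t)
    (𝟙 _) (𝟙 _) (pullback.snd h t) (IsPullback.of_id_fst)

/-- Upper semicontinuity from a cover by étale pieces with geometrically connected fibres. -/
theorem usc_core (sq : IsPullback α β f g) (hcl : IsClosedMap (toV β)) (hop : IsOpenMap (toV β)) {ι : Type*} [Finite ι]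
    (U : ι → Over S) (π : ∀ i, (yon S).obj (U i) ⟶ XV) (h : ∀ i, U i ⟶ V) (hπ : ∀ i, π i ≫ β = (yon S).map (h i))
    (hUo : ∀ i, IsOpen (Set.range (Points.ofPt (π i)))) (hconn : ∀ i, GeometricallyConnected (h i).left)
    {k : FieldPt Y} (c : k.pt ⟶ V) (hc : (yon S).map c ≫ g = k.toHom) {Xk : Sp S} {a : Xk ⟶ X}
    {b : Xk ⟶ (yon S).obj k.pt} (sqk : IsPullback a b f k.toHom)
    (hcov : ∀ x : Points XV, toV β x = c.left (IsLocalRing.closedPoint k.K) → ∃ i, x ∈ Set.range (Points.ofPt (π i))) :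
    ENat.card (ConnectedComponents (Points Xk)) < ⊤ ∧ ∃ N : Set V.left, IsOpen N ∧
      c.left (IsLocalRing.closedPoint k.K) ∈ N ∧
      ∀ (l : FieldPt Y) (c' : l.pt ⟶ V), (yon S).map c' ≫ g = l.toHom →
          c'.left (IsLocalRing.closedPoint l.K) ∈ N → ∀ (Xl : Sp S) (a' : Xl ⟶ X) (b' : Xl ⟶ (yon S).obj l.pt),
          IsPullback a' b' f l.toHom → ENat.card (ConnectedComponents (Points Xl)) ≤
            ENat.card (ConnectedComponents (Points Xk)) := by
  let v₀ : V.left := c.left (IsLocalRing.closedPoint k.K)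
  let A : ι → Set (Points XV) := fun i => Set.range (Points.ofPt (π i))
  let r : ι → ι → Prop := fun i j => ∃ x, toV β x = v₀ ∧ x ∈ A i ∩ A j
  let N : Set V.left := (toV β '' (⋃ i, A i)ᶜ)ᶜ ∩ ⋂ (p : {p : ι × ι // r p.1 p.2}), toV β '' (A p.1.1 ∩ A p.1.2)
  have hN : IsOpen N := by
    refine IsOpen.inter ?_ (isOpen_iInter_of_finite fun p => hop _ ((hUo _).inter (hUo _)))
    exact (hcl _ (isOpen_iUnion hUo).isClosed_compl).isOpen_compl
  have hvN : v₀ ∈ N := by
    refine ⟨?_, Set.mem_iInter.2 fun p => ?_⟩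
    · rintro ⟨x, hx, e⟩
      exact hx (Set.mem_iUnion.2 (hcov x e))
    · obtain ⟨x, e, hx⟩ := p.2
      exact ⟨x, hx, e⟩
  have hcovN : ∀ x : Points XV, toV β x ∈ N → ∃ i, x ∈ A i := by
    intro x hx
    by_contra hcon
    exact hx.1 ⟨x, fun h' => hcon (Set.mem_iUnion.1 h'), rfl⟩
  -- the upper bound over `N`
  have hup : ∀ (l : FieldPt Y) (c' : l.pt ⟶ V), (yon S).map c' ≫ g = l.toHom →
      c'.left (IsLocalRing.closedPoint l.K) ∈ N → ∀ (Xl : Sp S) (a' : Xl ⟶ X) (b' : Xl ⟶ (yon S).obj l.pt),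
      IsPullback a' b' f l.toHom → ENat.card (ConnectedComponents (Points Xl)) ≤ ENat.card (Quot r) := by
    intro l c' hc' hl Xl a' b' sql
    have : Subsingleton ↥l.pt.left := inferInstanceAs (Subsingleton (PrimeSpectrum l.K))
    obtain ⟨m, -, sqm⟩ := exists_toXV sq c' hc' sql
    have hB : ∀ i, IsConnected (Points.map m ⁻¹' A i) := fun i => by
      have := hconn i
      exact isConnected_preimage sqm (hπ i) (connectedSpace_pullback (K := l.K) (h i).left c'.left)
    refine CompTop.card_le (fun i => Points.map m ⁻¹' A i) (fun i => (hB i).isPreconnected) (fun i => (hB i).nonempty) ?_ r ?_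
    · intro x'
      refine hcovN _ ?_
      rw [toV_map sqm x' (IsLocalRing.closedPoint l.K)]
      exact hl
    · intro i j hij
      obtain ⟨x, hx, e⟩ := Set.mem_iInter.1 hl.2 ⟨(i, j), hij⟩
      obtain ⟨x', rfl⟩ := exists_pt sqm x _ e
      exact ⟨x', hx.1, hx.2⟩
  -- the lower bound at `k`
  have hlow : ENat.card (Quot r) ≤ ENat.card (ConnectedComponents (Points Xk)) := by
    have : Subsingleton ↥k.pt.left := inferInstanceAs (Subsingleton (PrimeSpectrum k.K))
    obtain ⟨m, -, sqm⟩ := exists_toXV sq c hc sqk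
    have hB : ∀ i, IsConnected (Points.map m ⁻¹' A i) := fun i => by
      have := hconn i
      exact isConnected_preimage sqm (hπ i) (connectedSpace_pullback (K := k.K) (h i).left c.left)
    refine CompTop.le_card (fun i => Points.map m ⁻¹' A i) (Or.inl fun i => (hUo i).preimage (Points.continuous_map m)) ?_ r
      ?_ ?_
    · intro x'
      exact hcov _ (toV_map sqm x' (IsLocalRing.closedPoint k.K))
    · intro q
      obtain ⟨i, rfl⟩ := Quot.exists_rep q
      exact ⟨i, rfl, (hB i).nonempty⟩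
    · rintro i j ⟨x', h1, h2⟩
      exact ⟨_, toV_map sqm x' (IsLocalRing.closedPoint k.K), h1, h2⟩
  refine ⟨(hup k c hc hvN Xk a b sqk).trans_lt ENat.card_lt_top_of_finite, N, hN, hvN, ?_⟩
  intro l c' hc' hl Xl a' b' sql
  exact (hup l c' hc' hl Xl a' b' sql).trans hlow

end K639.Usc
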