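import Groth.Agent.AlgSp.K639.Piece
import Groth.Agent.S1361

/-!
# Upper semicontinuity of the number of geometric connected components (geometrically reduced fibres)
-/

set_option autoImplicit false
set_option linter.dupNamespace false

universe u

open CategoryTheory CategoryTheory.Limits AlgebraicGeometry Opposite AlgSp
open K639.Diag K639.Fib K639.Diag2 K639.Red K639.Semi K639.Usc K639.Piece Groth.Agent

namespace K639.UscMain

variable {S : Scheme.{u}} {X Y XV : Sp S}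

/-- The pullback of schemes over `S`. -/
theorem exists_isPullback_over {U V T : Over S} (h : U ⟶ V) (c : T ⟶ V) :
    ∃ (P : Over S) (p₁ : P ⟶ U) (p₂ : P ⟶ T) (e : P.left ≅ pullback h.left c.left), IsPullback p₁ p₂ h c ∧
      e.hom ≫ pullback.fst h.left c.left = p₁.left ∧ e.hom ≫ pullback.snd h.left c.left = p₂.left := by
  refine ⟨Over.mk (pullback.fst h.left c.left ≫ U.hom), Over.homMk (pullback.fst h.left c.left) rfl,
    Over.homMk (pullback.snd h.left c.left) (by
      change pullback.snd h.left c.left ≫ T.hom = pullback.fst h.left c.left ≫ U.hom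
      rw [← Over.w c, ← Over.w h, ← Category.assoc, ← Category.assoc, pullback.condition]), Iso.refl _, ?_,
    Category.id_comp _, Category.id_comp _⟩
  refine IsPullback.of_map (Over.forget S) ?_ ?_
  · exact Over.OverMorphism.ext pullback.condition
  · exact IsPullback.of_hasPullback h.left c.left

/-- A point of a chart of a geometric fibre comes from a point of a geometric fibre of the piece. -/
theorem exists_lift_piece {U₀ V₀ T U' V' Q P : Over S} {h₀ : U₀ ⟶ V₀} {c₀ : T ⟶ V₀} {q₁ : Q ⟶ U₀} {q₂ : Q ⟶ T}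
    (e : Q.left ≅ pullback h₀.left c₀.left)
    (e1 : e.hom ≫ pullback.fst h₀.left c₀.left = q₁.left) (e2 : e.hom ≫ pullback.snd h₀.left c₀.left = q₂.left)
    {hh : U' ⟶ V'} {eU : U' ⟶ U₀} {cc : T ⟶ V'}
    {p₁ : P ⟶ U'} {p₂ : P ⟶ T} (e' : P.left ≅ pullback hh.left cc.left)
    (e1' : e'.hom ≫ pullback.fst hh.left cc.left = p₁.left) (e2' : e'.hom ≫ pullback.snd hh.left cc.left = p₂.left)
    (x₂ : ↥(pullback hh.left cc.left)) (w : Q.left)
    (lam : P ⟶ Q) (h1 : lam ≫ q₁ = p₁ ≫ eU) (h2 : lam ≫ q₂ = p₂)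
    (mu : pullback hh.left cc.left ⟶ pullback h₀.left c₀.left)
    (hmu1 : mu ≫ pullback.fst _ _ = pullback.fst _ _ ≫ eU.left) (hmu2 : mu ≫ pullback.snd _ _ = pullback.snd _ _)
    (hx : mu x₂ = e.hom w) : lam.left (e'.inv x₂) = w := by
  have h3 : lam.left ≫ e.hom = e'.hom ≫ mu := by
    apply pullback.hom_ext
    · rw [Category.assoc, e1, Category.assoc, hmu1, ← Category.assoc, e1', ← Over.comp_left, h1, Over.comp_left]
    · rw [Category.assoc, e2, Category.assoc, hmu2, e2', ← Over.comp_left, h2]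
  have h4 : e.hom (lam.left (e'.inv x₂)) = e.hom w := by
    rw [← hx, ← Scheme.Hom.comp_apply, h3, Scheme.Hom.comp_apply, ← Scheme.Hom.comp_apply e'.inv e'.hom, e'.inv_hom_id]
    rfl
  have h6 : ∀ t : Q.left, e.inv (e.hom t) = t := fun t => by
    rw [← Scheme.Hom.comp_apply, e.hom_inv_id]
    rfl
  rw [← h6 (lam.left (e'.inv x₂)), h4, h6]

/-- The geometric fibre is covered by pieces. -/
theorem exists_piece {f : X ⟶ Y} (hX : IsAlgSpace X) (hY : IsAlgSpace Y) (hfl : LocP @Flat f)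
    (hfp : LocP @LocallyOfFinitePresentation f) (hred : ∀ l : FieldPt Y, GeomRedAt f l) {k : FieldPt Y}
    (hk : k.IsGeometric) {Xk : Sp S} {ak : Xk ⟶ X} {bk : Xk ⟶ (yon S).obj k.pt} (sqk : IsPullback ak bk f k.toHom)
    (x : Points Xk) : ∃ p : Piece f k, x ∈ p.covered ak bk := by
  have : IsAlgClosed k.K := hk
  obtain ⟨V₀, g₀, hg, hgs⟩ := hY.atlas
  obtain ⟨v₀, hv₀⟩ := K609.Points.surjective_ofPt_of_repWith_surjective hgs (Points.mk k)
  obtain ⟨c₀, hc₀, -⟩ := K639.GeomLift.exists_lift_geom inferInstance hg v₀ hv₀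
  obtain ⟨XV, α, β, sq⟩ : ∃ (XV : Sp S) (α : XV ⟶ X) (β : XV ⟶ _), IsPullback α β f g₀ :=
    ⟨_, _, _, IsPullback.of_hasPullback _ _⟩
  obtain ⟨U₀, c, h₀, hc, hcs, hch⟩ := exists_chart_pullback hX hg.1 sq
  have ha₀ : RepWith @Etale (c ≫ α) := repWith_comp hc (repWith_of_isPullback sq.flip hg)
  have w₀ : (c ≫ α) ≫ f = (yon S).map h₀ ≫ g₀ := by rw [Category.assoc, sq.w, ← Category.assoc, hch]
  have h1 : Flat h₀.left := hfl _ g₀ h₀ ha₀ hg w₀
  have h2 : LocallyOfFinitePresentation h₀.left := hfp _ g₀ h₀ ha₀ hg w₀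
  have h3 : GeometricallyReduced h₀.left := by
    refine ⟨?_⟩
    rw [geometrically_iff_forall_fiberToSpecResidueField]
    exact fun v => ((geomRedAt_ofPt_iff sq hc hcs hch v).1 (hred _)).geometrically_isReduced
  have sqk' : IsPullback ak bk f ((yon S).map c₀ ≫ g₀) := by rw [hc₀]; exact sqk
  obtain ⟨Q, q₁, q₂, e, sqU, e1, e2⟩ := exists_isPullback_over h₀ c₀
  obtain ⟨ρ₀, m, hρ1, hρ2, sqρ, hmα, hmβ, -⟩ := exists_chart_baseChange sq hch c₀ sqk' sqU
  obtain ⟨w, rfl⟩ := K609.Points.surjective_ofPt_of_repWith_surjective (repWith_of_isPullback sqρ hcs) x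
  obtain ⟨X', S', a, b, cS, hea, ⟨u, hu⟩, hec, hw, -, -, -, -, hconn, -⟩ :=
    Groth.Agent.S1361.result h₀.left (pullback.fst h₀.left c₀.left (e.hom w))
  obtain ⟨c', hc', x₂, hx₂⟩ := exists_geom_factor (K := k.K) h₀.left c₀.left a b cS hw (e.hom w) u hu
  have hmu : (pullback.fst b c' ≫ a) ≫ h₀.left = pullback.snd b c' ≫ c₀.left := by
    rw [Category.assoc, hw, ← Category.assoc, pullback.condition, Category.assoc, hc']
  let V' : Over S := Over.mk (cS ≫ V₀.hom)
  let eV : V' ⟶ V₀ := Over.homMk cS rfl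
  let U' : Over S := Over.mk (a ≫ U₀.hom)
  let eU : U' ⟶ U₀ := Over.homMk a rfl
  let hh : U' ⟶ V' := Over.homMk b (by
    change b ≫ cS ≫ V₀.hom = a ≫ U₀.hom
    rw [← Over.w h₀, ← Category.assoc, ← hw, Category.assoc])
  have hhw : eU ≫ h₀ = hh ≫ eV := Over.OverMorphism.ext hw
  let cc : k.pt ⟶ V' := Over.homMk c' (by
    change c' ≫ cS ≫ V₀.hom = _
    rw [← Category.assoc, hc']
    exact Over.w c₀)
  have hccw : cc ≫ eV = c₀ := Over.OverMorphism.ext hc'
  let p : Piece f k :=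
    { V := V'
      g := (yon S).map eV ≫ g₀
      U := U'
      a := (yon S).map eU ≫ c ≫ α
      h := hh
      c := cc
      hg := repWith_comp ((repWith_yon_map_iff @Etale eV).2 hec) hg
      ha := repWith_comp ((repWith_yon_map_iff @Etale eU).2 hea) ha₀
      hc := by rw [← Category.assoc, ← Functor.map_comp, hccw, hc₀]
      w := by rw [Category.assoc, w₀, ← Category.assoc, ← Functor.map_comp, hhw, Functor.map_comp, Category.assoc]
      conn := hconn }
  obtain ⟨P, p₁, p₂, e', sqP, e1', e2'⟩ := exists_isPullback_over hh cc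
  have hl : (p₁ ≫ eU) ≫ h₀ = p₂ ≫ c₀ := by
    rw [Category.assoc, hhw, ← Category.assoc, sqP.w, Category.assoc, hccw]
  refine ⟨p, P, (yon S).map (sqU.lift (p₁ ≫ eU) p₂ hl) ≫ ρ₀, p₁, p₂, e'.inv x₂, ?_, ?_, sqP.w, ?_⟩
  · rw [Category.assoc, hρ1, ← Category.assoc, ← Functor.map_comp, sqU.lift_fst, Functor.map_comp, Category.assoc]
  · rw [Category.assoc, hρ2, ← Functor.map_comp, sqU.lift_snd]
  · refine (K609.Points.ofPt_yon_map_comp _ ρ₀ _).trans ?_
    congr 1
    exact exists_lift_piece e e1 e2 e' e1' e2' x₂ w _ (sqU.lift_fst _ _ _) (sqU.lift_snd _ _ _)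
      _ (pullback.lift_fst _ _ hmu) (pullback.lift_snd _ _ hmu) hx₂

end K639.UscMain
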